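import Cfsg.Agent.Lib.Tw2E6Max.Small

/-!
# The coordinates of the abelian subgroup and the action of the roots of type `D₄` on it
-/

set_option autoImplicit false
set_option maxRecDepth 1000000
set_option linter.unusedSectionVars false
set_option linter.unusedVariables false
set_option linter.unusedSimpArgs false
set_option linter.unreachableTactic false
set_option linter.unusedTactic false

universe u

namespace Cfsg.Agent.Lib.Tw2E6Max

open Cfsg.Lie Cfsg.Agent.Lib.ChevBN.Elem Cfsg.Agent.Lib.ChevBN.Table Cfsg.Agent.Lib.ChevBN.Rel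
open Cfsg.Agent.Lib.ChevBN.FastData Cfsg.Agent.Lib.ChevBN.Fix Cfsg.Agent.Lib.ChevBN.Collect
open Cfsg.Agent.Lib.Twisted Cfsg.Agent.Lib.Twisted.E6
open Cfsg.Agent.Lib.Chevalley.Tbl.E6 (sys comm)

variable {K : Type u} [Field K]

set_option quotPrecheck false in
/-- The root elements. -/
local notation "Xr" => X (sys (F := _)).toAddRel

/-- The coordinates of the abelian subgroup. -/
noncomputable def ay (a b c d e f g h : K) : GL chevE6.Idx K :=
  Xr 60 a * (Xr 63 b * (Xr 65 c * (Xr 66 d * (Xr 68 e * (Xr 69 f * (Xr 70 g * (Xr 71 h * 1)))))))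

theorem ay_gen (a b c d e f g h : K) : ay a b c d e f g h ∈ gen (sys (F := K)).toAddRel {x | x ∈ SS} := by
  unfold ay
  (repeat' apply Subgroup.mul_mem) <;> first
    | exact Subgroup.one_mem _
    | exact X_mem_gen _ (by decide) _

theorem ay_inj {a b c d e f g h a' b' c' d' e' f' g' h' : K} (H : ay a b c d e f g h = ay a' b' c' d' e' f' g' h') :
    a = a' ∧ b = b' ∧ c = c' ∧ d = d' ∧ e = e' ∧ f = f' ∧ g = g' ∧ h = h' := by
  let t : K → K → K → K → K → K → K → K → ℕ → K := fun a b c d e f g h r =>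
    if r = 60 then a else if r = 63 then b else if r = 65 then c else if r = 66 then d else
    if r = 68 then e else if r = 69 then f else if r = 70 then g else h
  have key : ∀ a b c d e f g h : K, W (sys (F := K)).toAddRel (SS.map fun r => (r, t a b c d e f g h r)) = ay a b c d e f g h := by
    intro a b c d e f g h
    simp [SS, t, W, ay]
  have h1 := ordered_unique (hA := (sys (F := K)).toAddRel) tbl_chevE6 SS (by decide) SS_pos (t a b c d e f g h)
    (t a' b' c' d' e' f' g' h') (by rw [key, key, H])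
  refine ⟨?_, ?_, ?_, ?_, ?_, ?_, ?_, ?_⟩
  · simpa [t] using h1 60 (by decide)
  · simpa [t] using h1 63 (by decide)
  · simpa [t] using h1 65 (by decide)
  · simpa [t] using h1 66 (by decide)
  · simpa [t] using h1 68 (by decide)
  · simpa [t] using h1 69 (by decide)
  · simpa [t] using h1 70 (by decide)
  · simpa [t] using h1 71 (by decide)

theorem ay_congr {a b c d e f g h a' b' c' d' e' f' g' h' : K} (h1 : a = a') (h2 : b = b') (h3 : c = c') (h4 : d = d')
    (h5 : e = e') (h6 : f = f') (h7 : g = g') (h8 : h = h') : ay a b c d e f g h = ay a' b' c' d' e' f' g' h' := by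
  rw [h1, h2, h3, h4, h5, h6, h7, h8]

theorem map_ay (σ : K →+* K) (a b c d e f g h : K) : mapG chevE6 σ (ay a b c d e f g h) = ay (σ a) (σ b) (σ c) (σ d) (σ e) (σ f) (σ g) (σ h) := by
  simp only [ay, map_mul, map_one, mapG_X σ (sys (F := K)).toAddRel (sys (F := K)).toAddRel]

theorem mg (r : ℕ) (s t : K) (R : GL chevE6.Idx K) : Xr r s * (Xr r t * R) = Xr r (s + t) * R := by
  rw [← mul_assoc, X_mul]

theorem cX {r : ℕ} {s t : K} {R R' : GL chevE6.Idx K} (h : s = t) (h' : R = R') : Xr r s * R = Xr r t * R' := by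
  rw [h, h']

theorem sw_gen {a b : ℕ} (ha : a ∈ SS) (hb : b ∈ SS) (t u : K) (R : GL chevE6.Idx K) :
    Xr a t * (Xr b u * R) = Xr b u * (Xr a t * R) := by
  rw [← mul_assoc, (comm_ss ha hb t u).eq, mul_assoc]

theorem cj0 {r s : ℕ} (hr : r < chevE6.nroots) (hs : s < chevE6.nroots) (h1 : s ≠ r) (h2 : s ≠ chevE6.neg r)
    (h3 : chevE6.commTerms r s = []) (u t : K) : MulAut.conj (Xr r u) (Xr s t) = Xr s t := by
  rw [MulAut.conj_apply, (comm_p hr hs h1 h2 h3 u t).eq, mul_inv_cancel_right]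

theorem cj1 {r s c : ℕ} {m : ℤ} (hr : chevE6.IsPosRoot r) (hs : chevE6.IsPosRoot s) (h1 : s ≠ r)
    (h3 : chevE6.commTerms r s = [(c, m, 1, 1)]) (u t : K) :
    MulAut.conj (Xr r u) (Xr s t) = Xr s t * Xr c ((m : K) * (u * t)) := by
  have h := commPos sys r s hr hs h1 (-u) t
  rw [ChevalleyDatum.commWord, h3] at h
  simp only [List.map_cons, List.map_nil, W_cons, W_nil, mul_one, pow_one, neg_neg] at h
  have e1 : Xr r u = (Xr r (-u))⁻¹ := by
    rw [X_inv, neg_neg]
  rw [MulAut.conj_apply, e1, inv_inv, mul_assoc, h]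
  have e2 : (m : K) * u * t = (m : K) * (u * t) := by ring
  rw [e2]
  group

theorem cjp {r s c : ℕ} (hr : chevE6.IsPosRoot r) (hs : chevE6.IsPosRoot s) (h1 : s ≠ r)
    (h3 : chevE6.commTerms r s = [(c, 1, 1, 1)]) (u t : K) :
    MulAut.conj (Xr r u) (Xr s t) = Xr s t * Xr c (u * t) := by
  have := cj1 hr hs h1 h3 u t
  simpa using this

theorem cjn {r s c : ℕ} (hr : chevE6.IsPosRoot r) (hs : chevE6.IsPosRoot s) (h1 : s ≠ r)
    (h3 : chevE6.commTerms r s = [(c, -1, 1, 1)]) (u t : K) :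
    MulAut.conj (Xr r u) (Xr s t) = Xr s t * Xr c (-(u * t)) := by
  have := cj1 hr hs h1 h3 u t
  simpa using this

theorem sw_63_60 (t u : K) (R : GL chevE6.Idx K) : Xr 63 t * (Xr 60 u * R) = Xr 60 u * (Xr 63 t * R) :=
  sw_gen (by decide) (by decide) t u R

theorem sw_65_60 (t u : K) (R : GL chevE6.Idx K) : Xr 65 t * (Xr 60 u * R) = Xr 60 u * (Xr 65 t * R) :=
  sw_gen (by decide) (by decide) t u R

theorem sw_65_63 (t u : K) (R : GL chevE6.Idx K) : Xr 65 t * (Xr 63 u * R) = Xr 63 u * (Xr 65 t * R) :=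
  sw_gen (by decide) (by decide) t u R

theorem sw_66_60 (t u : K) (R : GL chevE6.Idx K) : Xr 66 t * (Xr 60 u * R) = Xr 60 u * (Xr 66 t * R) :=
  sw_gen (by decide) (by decide) t u R

theorem sw_66_63 (t u : K) (R : GL chevE6.Idx K) : Xr 66 t * (Xr 63 u * R) = Xr 63 u * (Xr 66 t * R) :=
  sw_gen (by decide) (by decide) t u R

theorem sw_66_65 (t u : K) (R : GL chevE6.Idx K) : Xr 66 t * (Xr 65 u * R) = Xr 65 u * (Xr 66 t * R) :=
  sw_gen (by decide) (by decide) t u R

theorem sw_68_60 (t u : K) (R : GL chevE6.Idx K) : Xr 68 t * (Xr 60 u * R) = Xr 60 u * (Xr 68 t * R) :=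
  sw_gen (by decide) (by decide) t u R

theorem sw_68_63 (t u : K) (R : GL chevE6.Idx K) : Xr 68 t * (Xr 63 u * R) = Xr 63 u * (Xr 68 t * R) :=
  sw_gen (by decide) (by decide) t u R

theorem sw_68_65 (t u : K) (R : GL chevE6.Idx K) : Xr 68 t * (Xr 65 u * R) = Xr 65 u * (Xr 68 t * R) :=
  sw_gen (by decide) (by decide) t u R

theorem sw_68_66 (t u : K) (R : GL chevE6.Idx K) : Xr 68 t * (Xr 66 u * R) = Xr 66 u * (Xr 68 t * R) :=
  sw_gen (by decide) (by decide) t u R

theorem sw_69_60 (t u : K) (R : GL chevE6.Idx K) : Xr 69 t * (Xr 60 u * R) = Xr 60 u * (Xr 69 t * R) :=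
  sw_gen (by decide) (by decide) t u R

theorem sw_69_63 (t u : K) (R : GL chevE6.Idx K) : Xr 69 t * (Xr 63 u * R) = Xr 63 u * (Xr 69 t * R) :=
  sw_gen (by decide) (by decide) t u R

theorem sw_69_65 (t u : K) (R : GL chevE6.Idx K) : Xr 69 t * (Xr 65 u * R) = Xr 65 u * (Xr 69 t * R) :=
  sw_gen (by decide) (by decide) t u R

theorem sw_69_66 (t u : K) (R : GL chevE6.Idx K) : Xr 69 t * (Xr 66 u * R) = Xr 66 u * (Xr 69 t * R) :=
  sw_gen (by decide) (by decide) t u R

theorem sw_69_68 (t u : K) (R : GL chevE6.Idx K) : Xr 69 t * (Xr 68 u * R) = Xr 68 u * (Xr 69 t * R) :=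
  sw_gen (by decide) (by decide) t u R

theorem sw_70_60 (t u : K) (R : GL chevE6.Idx K) : Xr 70 t * (Xr 60 u * R) = Xr 60 u * (Xr 70 t * R) :=
  sw_gen (by decide) (by decide) t u R

theorem sw_70_63 (t u : K) (R : GL chevE6.Idx K) : Xr 70 t * (Xr 63 u * R) = Xr 63 u * (Xr 70 t * R) :=
  sw_gen (by decide) (by decide) t u R

theorem sw_70_65 (t u : K) (R : GL chevE6.Idx K) : Xr 70 t * (Xr 65 u * R) = Xr 65 u * (Xr 70 t * R) :=
  sw_gen (by decide) (by decide) t u R

theorem sw_70_66 (t u : K) (R : GL chevE6.Idx K) : Xr 70 t * (Xr 66 u * R) = Xr 66 u * (Xr 70 t * R) :=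
  sw_gen (by decide) (by decide) t u R

theorem sw_70_68 (t u : K) (R : GL chevE6.Idx K) : Xr 70 t * (Xr 68 u * R) = Xr 68 u * (Xr 70 t * R) :=
  sw_gen (by decide) (by decide) t u R

theorem sw_70_69 (t u : K) (R : GL chevE6.Idx K) : Xr 70 t * (Xr 69 u * R) = Xr 69 u * (Xr 70 t * R) :=
  sw_gen (by decide) (by decide) t u R

theorem sw_71_60 (t u : K) (R : GL chevE6.Idx K) : Xr 71 t * (Xr 60 u * R) = Xr 60 u * (Xr 71 t * R) :=
  sw_gen (by decide) (by decide) t u R

theorem sw_71_63 (t u : K) (R : GL chevE6.Idx K) : Xr 71 t * (Xr 63 u * R) = Xr 63 u * (Xr 71 t * R) :=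
  sw_gen (by decide) (by decide) t u R

theorem sw_71_65 (t u : K) (R : GL chevE6.Idx K) : Xr 71 t * (Xr 65 u * R) = Xr 65 u * (Xr 71 t * R) :=
  sw_gen (by decide) (by decide) t u R

theorem sw_71_66 (t u : K) (R : GL chevE6.Idx K) : Xr 71 t * (Xr 66 u * R) = Xr 66 u * (Xr 71 t * R) :=
  sw_gen (by decide) (by decide) t u R

theorem sw_71_68 (t u : K) (R : GL chevE6.Idx K) : Xr 71 t * (Xr 68 u * R) = Xr 68 u * (Xr 71 t * R) :=
  sw_gen (by decide) (by decide) t u R

theorem sw_71_69 (t u : K) (R : GL chevE6.Idx K) : Xr 71 t * (Xr 69 u * R) = Xr 69 u * (Xr 71 t * R) :=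
  sw_gen (by decide) (by decide) t u R

theorem sw_71_70 (t u : K) (R : GL chevE6.Idx K) : Xr 71 t * (Xr 70 u * R) = Xr 70 u * (Xr 71 t * R) :=
  sw_gen (by decide) (by decide) t u R

/-- The product of the abelian subgroup. -/
theorem ay_mul (a b c d e f g h a' b' c' d' e' f' g' h' : K) :
    ay a b c d e f g h * ay a' b' c' d' e' f' g' h' = ay (a + a') (b + b') (c + c') (d + d') (e + e') (f + f') (g + g') (h + h') := by
  simp only [ay, mul_assoc, mul_one, one_mul, mg, sw_63_60, sw_65_60, sw_65_63, sw_66_60, sw_66_63, sw_66_65, sw_68_60, sw_68_63, sw_68_65, sw_68_66, sw_69_60, sw_69_63, sw_69_65, sw_69_66, sw_69_68, sw_70_60, sw_70_63, sw_70_65, sw_70_66, sw_70_68, sw_70_69, sw_71_60, sw_71_63, sw_71_65, sw_71_66, sw_71_68, sw_71_69, sw_71_70, X_mul]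


/-- The difference of two elements with the same coordinates outside the middle. -/
theorem ay_diff (a b c d e f g h d' e' : K) :
    (ay a b c d e f g h)⁻¹ * ay a b c d' e' f g h = Xr 66 (d' - d) * (Xr 68 (e' - e) * 1) := by
  have h1 : ay a b c d e f g h * (Xr 66 (d' - d) * (Xr 68 (e' - e) * 1)) = ay a b c d' e' f g h := by
    have h2 : Xr 66 (d' - d) * (Xr 68 (e' - e) * 1) = ay 0 0 0 (d' - d) (e' - e) 0 0 0 := by
      simp [ay, X_zero]
    rw [h2, ay_mul]
    exact ay_congr (by ring) (by ring) (by ring) (by ring) (by ring) (by ring) (by ring) (by ring)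
  rw [inv_mul_eq_iff_eq_mul, h1]

theorem cj_37_60 (u t : K) : MulAut.conj (Xr 37 u) (Xr 60 t) = Xr 60 t :=
  cj0 (by decide +kernel) (by decide +kernel) (by decide +kernel) (by decide +kernel) (by decide +kernel) u t

theorem cj_37_63 (u t : K) : MulAut.conj (Xr 37 u) (Xr 63 t) = Xr 63 t :=
  cj0 (by decide +kernel) (by decide +kernel) (by decide +kernel) (by decide +kernel) (by decide +kernel) u t

theorem cj_37_65 (u t : K) : MulAut.conj (Xr 37 u) (Xr 65 t) = Xr 65 t * Xr 66 (u * t) :=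
  cjp (by decide +kernel) (by decide +kernel) (by decide +kernel) (by decide +kernel) u t

theorem cj_37_66 (u t : K) : MulAut.conj (Xr 37 u) (Xr 66 t) = Xr 66 t :=
  cj0 (by decide +kernel) (by decide +kernel) (by decide +kernel) (by decide +kernel) (by decide +kernel) u t

theorem cj_37_68 (u t : K) : MulAut.conj (Xr 37 u) (Xr 68 t) = Xr 68 t * Xr 69 (u * t) :=
  cjp (by decide +kernel) (by decide +kernel) (by decide +kernel) (by decide +kernel) u t

theorem cj_37_69 (u t : K) : MulAut.conj (Xr 37 u) (Xr 69 t) = Xr 69 t :=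
  cj0 (by decide +kernel) (by decide +kernel) (by decide +kernel) (by decide +kernel) (by decide +kernel) u t

theorem cj_37_70 (u t : K) : MulAut.conj (Xr 37 u) (Xr 70 t) = Xr 70 t :=
  cj0 (by decide +kernel) (by decide +kernel) (by decide +kernel) (by decide +kernel) (by decide +kernel) u t

theorem cj_37_71 (u t : K) : MulAut.conj (Xr 37 u) (Xr 71 t) = Xr 71 t :=
  cj0 (by decide +kernel) (by decide +kernel) (by decide +kernel) (by decide +kernel) (by decide +kernel) u t

theorem conj_37 (u a b c d e f g h : K) : Xr 37 u * ay a b c d e f g h * (Xr 37 u)⁻¹ = ay a b c (u * c + d) e (u * e + f) g h := by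
  rw [← MulAut.conj_apply]
  simp only [ay, map_mul, map_one, cj_37_60, cj_37_63, cj_37_65, cj_37_66, cj_37_68, cj_37_69, cj_37_70, cj_37_71, mul_assoc, mg, sw_63_60, sw_65_60, sw_65_63, sw_66_60, sw_66_63, sw_66_65, sw_68_60, sw_68_63, sw_68_65, sw_68_66, sw_69_60, sw_69_63, sw_69_65, sw_69_66, sw_69_68, sw_70_60, sw_70_63, sw_70_65, sw_70_66, sw_70_68, sw_70_69, sw_71_60, sw_71_63, sw_71_65, sw_71_66, sw_71_68, sw_71_69, sw_71_70] <;> (refine cX ?_ (cX ?_ (cX ?_ (cX ?_ (cX ?_ (cX ?_ (cX ?_ (cX ?_ (rfl)))))))) <;> ring)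

theorem cj_39_60 (u t : K) : MulAut.conj (Xr 39 u) (Xr 60 t) = Xr 60 t :=
  cj0 (by decide +kernel) (by decide +kernel) (by decide +kernel) (by decide +kernel) (by decide +kernel) u t

theorem cj_39_63 (u t : K) : MulAut.conj (Xr 39 u) (Xr 63 t) = Xr 63 t * Xr 65 (u * t) :=
  cjp (by decide +kernel) (by decide +kernel) (by decide +kernel) (by decide +kernel) u t

theorem cj_39_65 (u t : K) : MulAut.conj (Xr 39 u) (Xr 65 t) = Xr 65 t :=
  cj0 (by decide +kernel) (by decide +kernel) (by decide +kernel) (by decide +kernel) (by decide +kernel) u t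

theorem cj_39_66 (u t : K) : MulAut.conj (Xr 39 u) (Xr 66 t) = Xr 66 t :=
  cj0 (by decide +kernel) (by decide +kernel) (by decide +kernel) (by decide +kernel) (by decide +kernel) u t

theorem cj_39_68 (u t : K) : MulAut.conj (Xr 39 u) (Xr 68 t) = Xr 68 t :=
  cj0 (by decide +kernel) (by decide +kernel) (by decide +kernel) (by decide +kernel) (by decide +kernel) u t

theorem cj_39_69 (u t : K) : MulAut.conj (Xr 39 u) (Xr 69 t) = Xr 69 t * Xr 70 (u * t) :=
  cjp (by decide +kernel) (by decide +kernel) (by decide +kernel) (by decide +kernel) u t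

theorem cj_39_70 (u t : K) : MulAut.conj (Xr 39 u) (Xr 70 t) = Xr 70 t :=
  cj0 (by decide +kernel) (by decide +kernel) (by decide +kernel) (by decide +kernel) (by decide +kernel) u t

theorem cj_39_71 (u t : K) : MulAut.conj (Xr 39 u) (Xr 71 t) = Xr 71 t :=
  cj0 (by decide +kernel) (by decide +kernel) (by decide +kernel) (by decide +kernel) (by decide +kernel) u t

theorem conj_39 (u a b c d e f g h : K) : Xr 39 u * ay a b c d e f g h * (Xr 39 u)⁻¹ = ay a b (u * b + c) d e f (u * f + g) h := by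
  rw [← MulAut.conj_apply]
  simp only [ay, map_mul, map_one, cj_39_60, cj_39_63, cj_39_65, cj_39_66, cj_39_68, cj_39_69, cj_39_70, cj_39_71, mul_assoc, mg, sw_63_60, sw_65_60, sw_65_63, sw_66_60, sw_66_63, sw_66_65, sw_68_60, sw_68_63, sw_68_65, sw_68_66, sw_69_60, sw_69_63, sw_69_65, sw_69_66, sw_69_68, sw_70_60, sw_70_63, sw_70_65, sw_70_66, sw_70_68, sw_70_69, sw_71_60, sw_71_63, sw_71_65, sw_71_66, sw_71_68, sw_71_69, sw_71_70] <;> (refine cX ?_ (cX ?_ (cX ?_ (cX ?_ (cX ?_ (cX ?_ (cX ?_ (cX ?_ (rfl)))))))) <;> ring)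

theorem cj_40_60 (u t : K) : MulAut.conj (Xr 40 u) (Xr 60 t) = Xr 60 t :=
  cj0 (by decide +kernel) (by decide +kernel) (by decide +kernel) (by decide +kernel) (by decide +kernel) u t

theorem cj_40_63 (u t : K) : MulAut.conj (Xr 40 u) (Xr 63 t) = Xr 63 t * Xr 66 (u * t) :=
  cjp (by decide +kernel) (by decide +kernel) (by decide +kernel) (by decide +kernel) u t

theorem cj_40_65 (u t : K) : MulAut.conj (Xr 40 u) (Xr 65 t) = Xr 65 t :=
  cj0 (by decide +kernel) (by decide +kernel) (by decide +kernel) (by decide +kernel) (by decide +kernel) u t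

theorem cj_40_66 (u t : K) : MulAut.conj (Xr 40 u) (Xr 66 t) = Xr 66 t :=
  cj0 (by decide +kernel) (by decide +kernel) (by decide +kernel) (by decide +kernel) (by decide +kernel) u t

theorem cj_40_68 (u t : K) : MulAut.conj (Xr 40 u) (Xr 68 t) = Xr 68 t * Xr 70 (-(u * t)) :=
  cjn (by decide +kernel) (by decide +kernel) (by decide +kernel) (by decide +kernel) u t

theorem cj_40_69 (u t : K) : MulAut.conj (Xr 40 u) (Xr 69 t) = Xr 69 t :=
  cj0 (by decide +kernel) (by decide +kernel) (by decide +kernel) (by decide +kernel) (by decide +kernel) u t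

theorem cj_40_70 (u t : K) : MulAut.conj (Xr 40 u) (Xr 70 t) = Xr 70 t :=
  cj0 (by decide +kernel) (by decide +kernel) (by decide +kernel) (by decide +kernel) (by decide +kernel) u t

theorem cj_40_71 (u t : K) : MulAut.conj (Xr 40 u) (Xr 71 t) = Xr 71 t :=
  cj0 (by decide +kernel) (by decide +kernel) (by decide +kernel) (by decide +kernel) (by decide +kernel) u t

theorem conj_40 (u a b c d e f g h : K) : Xr 40 u * ay a b c d e f g h * (Xr 40 u)⁻¹ = ay a b c (u * b + d) e f (-(u * e) + g) h := by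
  rw [← MulAut.conj_apply]
  simp only [ay, map_mul, map_one, cj_40_60, cj_40_63, cj_40_65, cj_40_66, cj_40_68, cj_40_69, cj_40_70, cj_40_71, mul_assoc, mg, sw_63_60, sw_65_60, sw_65_63, sw_66_60, sw_66_63, sw_66_65, sw_68_60, sw_68_63, sw_68_65, sw_68_66, sw_69_60, sw_69_63, sw_69_65, sw_69_66, sw_69_68, sw_70_60, sw_70_63, sw_70_65, sw_70_66, sw_70_68, sw_70_69, sw_71_60, sw_71_63, sw_71_65, sw_71_66, sw_71_68, sw_71_69, sw_71_70] <;> (refine cX ?_ (cX ?_ (cX ?_ (cX ?_ (cX ?_ (cX ?_ (cX ?_ (cX ?_ (rfl)))))))) <;> ring)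

theorem cj_42_60 (u t : K) : MulAut.conj (Xr 42 u) (Xr 60 t) = Xr 60 t :=
  cj0 (by decide +kernel) (by decide +kernel) (by decide +kernel) (by decide +kernel) (by decide +kernel) u t

theorem cj_42_63 (u t : K) : MulAut.conj (Xr 42 u) (Xr 63 t) = Xr 63 t :=
  cj0 (by decide +kernel) (by decide +kernel) (by decide +kernel) (by decide +kernel) (by decide +kernel) u t

theorem cj_42_65 (u t : K) : MulAut.conj (Xr 42 u) (Xr 65 t) = Xr 65 t * Xr 68 (u * t) :=
  cjp (by decide +kernel) (by decide +kernel) (by decide +kernel) (by decide +kernel) u t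

theorem cj_42_66 (u t : K) : MulAut.conj (Xr 42 u) (Xr 66 t) = Xr 66 t * Xr 69 (u * t) :=
  cjp (by decide +kernel) (by decide +kernel) (by decide +kernel) (by decide +kernel) u t

theorem cj_42_68 (u t : K) : MulAut.conj (Xr 42 u) (Xr 68 t) = Xr 68 t :=
  cj0 (by decide +kernel) (by decide +kernel) (by decide +kernel) (by decide +kernel) (by decide +kernel) u t

theorem cj_42_69 (u t : K) : MulAut.conj (Xr 42 u) (Xr 69 t) = Xr 69 t :=
  cj0 (by decide +kernel) (by decide +kernel) (by decide +kernel) (by decide +kernel) (by decide +kernel) u t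

theorem cj_42_70 (u t : K) : MulAut.conj (Xr 42 u) (Xr 70 t) = Xr 70 t :=
  cj0 (by decide +kernel) (by decide +kernel) (by decide +kernel) (by decide +kernel) (by decide +kernel) u t

theorem cj_42_71 (u t : K) : MulAut.conj (Xr 42 u) (Xr 71 t) = Xr 71 t :=
  cj0 (by decide +kernel) (by decide +kernel) (by decide +kernel) (by decide +kernel) (by decide +kernel) u t

theorem conj_42 (u a b c d e f g h : K) : Xr 42 u * ay a b c d e f g h * (Xr 42 u)⁻¹ = ay a b c d (u * c + e) (u * d + f) g h := by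
  rw [← MulAut.conj_apply]
  simp only [ay, map_mul, map_one, cj_42_60, cj_42_63, cj_42_65, cj_42_66, cj_42_68, cj_42_69, cj_42_70, cj_42_71, mul_assoc, mg, sw_63_60, sw_65_60, sw_65_63, sw_66_60, sw_66_63, sw_66_65, sw_68_60, sw_68_63, sw_68_65, sw_68_66, sw_69_60, sw_69_63, sw_69_65, sw_69_66, sw_69_68, sw_70_60, sw_70_63, sw_70_65, sw_70_66, sw_70_68, sw_70_69, sw_71_60, sw_71_63, sw_71_65, sw_71_66, sw_71_68, sw_71_69, sw_71_70] <;> (refine cX ?_ (cX ?_ (cX ?_ (cX ?_ (cX ?_ (cX ?_ (cX ?_ (cX ?_ (rfl)))))))) <;> ring)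

theorem cj_43_60 (u t : K) : MulAut.conj (Xr 43 u) (Xr 60 t) = Xr 60 t :=
  cj0 (by decide +kernel) (by decide +kernel) (by decide +kernel) (by decide +kernel) (by decide +kernel) u t

theorem cj_43_63 (u t : K) : MulAut.conj (Xr 43 u) (Xr 63 t) = Xr 63 t * Xr 68 (-(u * t)) :=
  cjn (by decide +kernel) (by decide +kernel) (by decide +kernel) (by decide +kernel) u t

theorem cj_43_65 (u t : K) : MulAut.conj (Xr 43 u) (Xr 65 t) = Xr 65 t :=
  cj0 (by decide +kernel) (by decide +kernel) (by decide +kernel) (by decide +kernel) (by decide +kernel) u t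

theorem cj_43_66 (u t : K) : MulAut.conj (Xr 43 u) (Xr 66 t) = Xr 66 t * Xr 70 (u * t) :=
  cjp (by decide +kernel) (by decide +kernel) (by decide +kernel) (by decide +kernel) u t

theorem cj_43_68 (u t : K) : MulAut.conj (Xr 43 u) (Xr 68 t) = Xr 68 t :=
  cj0 (by decide +kernel) (by decide +kernel) (by decide +kernel) (by decide +kernel) (by decide +kernel) u t

theorem cj_43_69 (u t : K) : MulAut.conj (Xr 43 u) (Xr 69 t) = Xr 69 t :=
  cj0 (by decide +kernel) (by decide +kernel) (by decide +kernel) (by decide +kernel) (by decide +kernel) u t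

theorem cj_43_70 (u t : K) : MulAut.conj (Xr 43 u) (Xr 70 t) = Xr 70 t :=
  cj0 (by decide +kernel) (by decide +kernel) (by decide +kernel) (by decide +kernel) (by decide +kernel) u t

theorem cj_43_71 (u t : K) : MulAut.conj (Xr 43 u) (Xr 71 t) = Xr 71 t :=
  cj0 (by decide +kernel) (by decide +kernel) (by decide +kernel) (by decide +kernel) (by decide +kernel) u t

theorem conj_43 (u a b c d e f g h : K) : Xr 43 u * ay a b c d e f g h * (Xr 43 u)⁻¹ = ay a b c d (-(u * b) + e) f (u * d + g) h := by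
  rw [← MulAut.conj_apply]
  simp only [ay, map_mul, map_one, cj_43_60, cj_43_63, cj_43_65, cj_43_66, cj_43_68, cj_43_69, cj_43_70, cj_43_71, mul_assoc, mg, sw_63_60, sw_65_60, sw_65_63, sw_66_60, sw_66_63, sw_66_65, sw_68_60, sw_68_63, sw_68_65, sw_68_66, sw_69_60, sw_69_63, sw_69_65, sw_69_66, sw_69_68, sw_70_60, sw_70_63, sw_70_65, sw_70_66, sw_70_68, sw_70_69, sw_71_60, sw_71_63, sw_71_65, sw_71_66, sw_71_68, sw_71_69, sw_71_70] <;> (refine cX ?_ (cX ?_ (cX ?_ (cX ?_ (cX ?_ (cX ?_ (cX ?_ (cX ?_ (rfl)))))))) <;> ring)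

theorem cj_44_60 (u t : K) : MulAut.conj (Xr 44 u) (Xr 60 t) = Xr 60 t :=
  cj0 (by decide +kernel) (by decide +kernel) (by decide +kernel) (by decide +kernel) (by decide +kernel) u t

theorem cj_44_63 (u t : K) : MulAut.conj (Xr 44 u) (Xr 63 t) = Xr 63 t * Xr 69 (-(u * t)) :=
  cjn (by decide +kernel) (by decide +kernel) (by decide +kernel) (by decide +kernel) u t

theorem cj_44_65 (u t : K) : MulAut.conj (Xr 44 u) (Xr 65 t) = Xr 65 t * Xr 70 (-(u * t)) :=
  cjn (by decide +kernel) (by decide +kernel) (by decide +kernel) (by decide +kernel) u t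

theorem cj_44_66 (u t : K) : MulAut.conj (Xr 44 u) (Xr 66 t) = Xr 66 t :=
  cj0 (by decide +kernel) (by decide +kernel) (by decide +kernel) (by decide +kernel) (by decide +kernel) u t

theorem cj_44_68 (u t : K) : MulAut.conj (Xr 44 u) (Xr 68 t) = Xr 68 t :=
  cj0 (by decide +kernel) (by decide +kernel) (by decide +kernel) (by decide +kernel) (by decide +kernel) u t

theorem cj_44_69 (u t : K) : MulAut.conj (Xr 44 u) (Xr 69 t) = Xr 69 t :=
  cj0 (by decide +kernel) (by decide +kernel) (by decide +kernel) (by decide +kernel) (by decide +kernel) u t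

theorem cj_44_70 (u t : K) : MulAut.conj (Xr 44 u) (Xr 70 t) = Xr 70 t :=
  cj0 (by decide +kernel) (by decide +kernel) (by decide +kernel) (by decide +kernel) (by decide +kernel) u t

theorem cj_44_71 (u t : K) : MulAut.conj (Xr 44 u) (Xr 71 t) = Xr 71 t :=
  cj0 (by decide +kernel) (by decide +kernel) (by decide +kernel) (by decide +kernel) (by decide +kernel) u t

theorem conj_44 (u a b c d e f g h : K) : Xr 44 u * ay a b c d e f g h * (Xr 44 u)⁻¹ = ay a b c d e (-(u * b) + f) (-(u * c) + g) h := by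
  rw [← MulAut.conj_apply]
  simp only [ay, map_mul, map_one, cj_44_60, cj_44_63, cj_44_65, cj_44_66, cj_44_68, cj_44_69, cj_44_70, cj_44_71, mul_assoc, mg, sw_63_60, sw_65_60, sw_65_63, sw_66_60, sw_66_63, sw_66_65, sw_68_60, sw_68_63, sw_68_65, sw_68_66, sw_69_60, sw_69_63, sw_69_65, sw_69_66, sw_69_68, sw_70_60, sw_70_63, sw_70_65, sw_70_66, sw_70_68, sw_70_69, sw_71_60, sw_71_63, sw_71_65, sw_71_66, sw_71_68, sw_71_69, sw_71_70] <;> (refine cX ?_ (cX ?_ (cX ?_ (cX ?_ (cX ?_ (cX ?_ (cX ?_ (cX ?_ (rfl)))))))) <;> ring)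

theorem cj_46_60 (u t : K) : MulAut.conj (Xr 46 u) (Xr 60 t) = Xr 60 t * Xr 63 (u * t) :=
  cjp (by decide +kernel) (by decide +kernel) (by decide +kernel) (by decide +kernel) u t

theorem cj_46_63 (u t : K) : MulAut.conj (Xr 46 u) (Xr 63 t) = Xr 63 t :=
  cj0 (by decide +kernel) (by decide +kernel) (by decide +kernel) (by decide +kernel) (by decide +kernel) u t

theorem cj_46_65 (u t : K) : MulAut.conj (Xr 46 u) (Xr 65 t) = Xr 65 t :=
  cj0 (by decide +kernel) (by decide +kernel) (by decide +kernel) (by decide +kernel) (by decide +kernel) u t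

theorem cj_46_66 (u t : K) : MulAut.conj (Xr 46 u) (Xr 66 t) = Xr 66 t :=
  cj0 (by decide +kernel) (by decide +kernel) (by decide +kernel) (by decide +kernel) (by decide +kernel) u t

theorem cj_46_68 (u t : K) : MulAut.conj (Xr 46 u) (Xr 68 t) = Xr 68 t :=
  cj0 (by decide +kernel) (by decide +kernel) (by decide +kernel) (by decide +kernel) (by decide +kernel) u t

theorem cj_46_69 (u t : K) : MulAut.conj (Xr 46 u) (Xr 69 t) = Xr 69 t :=
  cj0 (by decide +kernel) (by decide +kernel) (by decide +kernel) (by decide +kernel) (by decide +kernel) u t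

theorem cj_46_70 (u t : K) : MulAut.conj (Xr 46 u) (Xr 70 t) = Xr 70 t * Xr 71 (u * t) :=
  cjp (by decide +kernel) (by decide +kernel) (by decide +kernel) (by decide +kernel) u t

theorem cj_46_71 (u t : K) : MulAut.conj (Xr 46 u) (Xr 71 t) = Xr 71 t :=
  cj0 (by decide +kernel) (by decide +kernel) (by decide +kernel) (by decide +kernel) (by decide +kernel) u t

theorem conj_46 (u a b c d e f g h : K) : Xr 46 u * ay a b c d e f g h * (Xr 46 u)⁻¹ = ay a (u * a + b) c d e f g (u * g + h) := by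
  rw [← MulAut.conj_apply]
  simp only [ay, map_mul, map_one, cj_46_60, cj_46_63, cj_46_65, cj_46_66, cj_46_68, cj_46_69, cj_46_70, cj_46_71, mul_assoc, mg, sw_63_60, sw_65_60, sw_65_63, sw_66_60, sw_66_63, sw_66_65, sw_68_60, sw_68_63, sw_68_65, sw_68_66, sw_69_60, sw_69_63, sw_69_65, sw_69_66, sw_69_68, sw_70_60, sw_70_63, sw_70_65, sw_70_66, sw_70_68, sw_70_69, sw_71_60, sw_71_63, sw_71_65, sw_71_66, sw_71_68, sw_71_69, sw_71_70] <;> (refine cX ?_ (cX ?_ (cX ?_ (cX ?_ (cX ?_ (cX ?_ (cX ?_ (cX ?_ (rfl)))))))) <;> ring)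

theorem cj_47_60 (u t : K) : MulAut.conj (Xr 47 u) (Xr 60 t) = Xr 60 t * Xr 65 (u * t) :=
  cjp (by decide +kernel) (by decide +kernel) (by decide +kernel) (by decide +kernel) u t

theorem cj_47_63 (u t : K) : MulAut.conj (Xr 47 u) (Xr 63 t) = Xr 63 t :=
  cj0 (by decide +kernel) (by decide +kernel) (by decide +kernel) (by decide +kernel) (by decide +kernel) u t

theorem cj_47_65 (u t : K) : MulAut.conj (Xr 47 u) (Xr 65 t) = Xr 65 t :=
  cj0 (by decide +kernel) (by decide +kernel) (by decide +kernel) (by decide +kernel) (by decide +kernel) u t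

theorem cj_47_66 (u t : K) : MulAut.conj (Xr 47 u) (Xr 66 t) = Xr 66 t :=
  cj0 (by decide +kernel) (by decide +kernel) (by decide +kernel) (by decide +kernel) (by decide +kernel) u t

theorem cj_47_68 (u t : K) : MulAut.conj (Xr 47 u) (Xr 68 t) = Xr 68 t :=
  cj0 (by decide +kernel) (by decide +kernel) (by decide +kernel) (by decide +kernel) (by decide +kernel) u t

theorem cj_47_69 (u t : K) : MulAut.conj (Xr 47 u) (Xr 69 t) = Xr 69 t * Xr 71 (-(u * t)) :=
  cjn (by decide +kernel) (by decide +kernel) (by decide +kernel) (by decide +kernel) u t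

theorem cj_47_70 (u t : K) : MulAut.conj (Xr 47 u) (Xr 70 t) = Xr 70 t :=
  cj0 (by decide +kernel) (by decide +kernel) (by decide +kernel) (by decide +kernel) (by decide +kernel) u t

theorem cj_47_71 (u t : K) : MulAut.conj (Xr 47 u) (Xr 71 t) = Xr 71 t :=
  cj0 (by decide +kernel) (by decide +kernel) (by decide +kernel) (by decide +kernel) (by decide +kernel) u t

theorem conj_47 (u a b c d e f g h : K) : Xr 47 u * ay a b c d e f g h * (Xr 47 u)⁻¹ = ay a b (u * a + c) d e f g (-(u * f) + h) := by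
  rw [← MulAut.conj_apply]
  simp only [ay, map_mul, map_one, cj_47_60, cj_47_63, cj_47_65, cj_47_66, cj_47_68, cj_47_69, cj_47_70, cj_47_71, mul_assoc, mg, sw_63_60, sw_65_60, sw_65_63, sw_66_60, sw_66_63, sw_66_65, sw_68_60, sw_68_63, sw_68_65, sw_68_66, sw_69_60, sw_69_63, sw_69_65, sw_69_66, sw_69_68, sw_70_60, sw_70_63, sw_70_65, sw_70_66, sw_70_68, sw_70_69, sw_71_60, sw_71_63, sw_71_65, sw_71_66, sw_71_68, sw_71_69, sw_71_70] <;> (refine cX ?_ (cX ?_ (cX ?_ (cX ?_ (cX ?_ (cX ?_ (cX ?_ (cX ?_ (rfl)))))))) <;> ring)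

theorem cj_48_60 (u t : K) : MulAut.conj (Xr 48 u) (Xr 60 t) = Xr 60 t * Xr 66 (u * t) :=
  cjp (by decide +kernel) (by decide +kernel) (by decide +kernel) (by decide +kernel) u t

theorem cj_48_63 (u t : K) : MulAut.conj (Xr 48 u) (Xr 63 t) = Xr 63 t :=
  cj0 (by decide +kernel) (by decide +kernel) (by decide +kernel) (by decide +kernel) (by decide +kernel) u t

theorem cj_48_65 (u t : K) : MulAut.conj (Xr 48 u) (Xr 65 t) = Xr 65 t :=
  cj0 (by decide +kernel) (by decide +kernel) (by decide +kernel) (by decide +kernel) (by decide +kernel) u t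

theorem cj_48_66 (u t : K) : MulAut.conj (Xr 48 u) (Xr 66 t) = Xr 66 t :=
  cj0 (by decide +kernel) (by decide +kernel) (by decide +kernel) (by decide +kernel) (by decide +kernel) u t

theorem cj_48_68 (u t : K) : MulAut.conj (Xr 48 u) (Xr 68 t) = Xr 68 t * Xr 71 (u * t) :=
  cjp (by decide +kernel) (by decide +kernel) (by decide +kernel) (by decide +kernel) u t

theorem cj_48_69 (u t : K) : MulAut.conj (Xr 48 u) (Xr 69 t) = Xr 69 t :=
  cj0 (by decide +kernel) (by decide +kernel) (by decide +kernel) (by decide +kernel) (by decide +kernel) u t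

theorem cj_48_70 (u t : K) : MulAut.conj (Xr 48 u) (Xr 70 t) = Xr 70 t :=
  cj0 (by decide +kernel) (by decide +kernel) (by decide +kernel) (by decide +kernel) (by decide +kernel) u t

theorem cj_48_71 (u t : K) : MulAut.conj (Xr 48 u) (Xr 71 t) = Xr 71 t :=
  cj0 (by decide +kernel) (by decide +kernel) (by decide +kernel) (by decide +kernel) (by decide +kernel) u t

theorem conj_48 (u a b c d e f g h : K) : Xr 48 u * ay a b c d e f g h * (Xr 48 u)⁻¹ = ay a b c (u * a + d) e f g (u * e + h) := by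
  rw [← MulAut.conj_apply]
  simp only [ay, map_mul, map_one, cj_48_60, cj_48_63, cj_48_65, cj_48_66, cj_48_68, cj_48_69, cj_48_70, cj_48_71, mul_assoc, mg, sw_63_60, sw_65_60, sw_65_63, sw_66_60, sw_66_63, sw_66_65, sw_68_60, sw_68_63, sw_68_65, sw_68_66, sw_69_60, sw_69_63, sw_69_65, sw_69_66, sw_69_68, sw_70_60, sw_70_63, sw_70_65, sw_70_66, sw_70_68, sw_70_69, sw_71_60, sw_71_63, sw_71_65, sw_71_66, sw_71_68, sw_71_69, sw_71_70] <;> (refine cX ?_ (cX ?_ (cX ?_ (cX ?_ (cX ?_ (cX ?_ (cX ?_ (cX ?_ (rfl)))))))) <;> ring)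

theorem cj_50_60 (u t : K) : MulAut.conj (Xr 50 u) (Xr 60 t) = Xr 60 t * Xr 68 (u * t) :=
  cjp (by decide +kernel) (by decide +kernel) (by decide +kernel) (by decide +kernel) u t

theorem cj_50_63 (u t : K) : MulAut.conj (Xr 50 u) (Xr 63 t) = Xr 63 t :=
  cj0 (by decide +kernel) (by decide +kernel) (by decide +kernel) (by decide +kernel) (by decide +kernel) u t

theorem cj_50_65 (u t : K) : MulAut.conj (Xr 50 u) (Xr 65 t) = Xr 65 t :=
  cj0 (by decide +kernel) (by decide +kernel) (by decide +kernel) (by decide +kernel) (by decide +kernel) u t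

theorem cj_50_66 (u t : K) : MulAut.conj (Xr 50 u) (Xr 66 t) = Xr 66 t * Xr 71 (u * t) :=
  cjp (by decide +kernel) (by decide +kernel) (by decide +kernel) (by decide +kernel) u t

theorem cj_50_68 (u t : K) : MulAut.conj (Xr 50 u) (Xr 68 t) = Xr 68 t :=
  cj0 (by decide +kernel) (by decide +kernel) (by decide +kernel) (by decide +kernel) (by decide +kernel) u t

theorem cj_50_69 (u t : K) : MulAut.conj (Xr 50 u) (Xr 69 t) = Xr 69 t :=
  cj0 (by decide +kernel) (by decide +kernel) (by decide +kernel) (by decide +kernel) (by decide +kernel) u t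

theorem cj_50_70 (u t : K) : MulAut.conj (Xr 50 u) (Xr 70 t) = Xr 70 t :=
  cj0 (by decide +kernel) (by decide +kernel) (by decide +kernel) (by decide +kernel) (by decide +kernel) u t

theorem cj_50_71 (u t : K) : MulAut.conj (Xr 50 u) (Xr 71 t) = Xr 71 t :=
  cj0 (by decide +kernel) (by decide +kernel) (by decide +kernel) (by decide +kernel) (by decide +kernel) u t

theorem conj_50 (u a b c d e f g h : K) : Xr 50 u * ay a b c d e f g h * (Xr 50 u)⁻¹ = ay a b c d (u * a + e) f g (u * d + h) := by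
  rw [← MulAut.conj_apply]
  simp only [ay, map_mul, map_one, cj_50_60, cj_50_63, cj_50_65, cj_50_66, cj_50_68, cj_50_69, cj_50_70, cj_50_71, mul_assoc, mg, sw_63_60, sw_65_60, sw_65_63, sw_66_60, sw_66_63, sw_66_65, sw_68_60, sw_68_63, sw_68_65, sw_68_66, sw_69_60, sw_69_63, sw_69_65, sw_69_66, sw_69_68, sw_70_60, sw_70_63, sw_70_65, sw_70_66, sw_70_68, sw_70_69, sw_71_60, sw_71_63, sw_71_65, sw_71_66, sw_71_68, sw_71_69, sw_71_70] <;> (refine cX ?_ (cX ?_ (cX ?_ (cX ?_ (cX ?_ (cX ?_ (cX ?_ (cX ?_ (rfl)))))))) <;> ring)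

theorem cj_51_60 (u t : K) : MulAut.conj (Xr 51 u) (Xr 60 t) = Xr 60 t * Xr 69 (u * t) :=
  cjp (by decide +kernel) (by decide +kernel) (by decide +kernel) (by decide +kernel) u t

theorem cj_51_63 (u t : K) : MulAut.conj (Xr 51 u) (Xr 63 t) = Xr 63 t :=
  cj0 (by decide +kernel) (by decide +kernel) (by decide +kernel) (by decide +kernel) (by decide +kernel) u t

theorem cj_51_65 (u t : K) : MulAut.conj (Xr 51 u) (Xr 65 t) = Xr 65 t * Xr 71 (-(u * t)) :=
  cjn (by decide +kernel) (by decide +kernel) (by decide +kernel) (by decide +kernel) u t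

theorem cj_51_66 (u t : K) : MulAut.conj (Xr 51 u) (Xr 66 t) = Xr 66 t :=
  cj0 (by decide +kernel) (by decide +kernel) (by decide +kernel) (by decide +kernel) (by decide +kernel) u t

theorem cj_51_68 (u t : K) : MulAut.conj (Xr 51 u) (Xr 68 t) = Xr 68 t :=
  cj0 (by decide +kernel) (by decide +kernel) (by decide +kernel) (by decide +kernel) (by decide +kernel) u t

theorem cj_51_69 (u t : K) : MulAut.conj (Xr 51 u) (Xr 69 t) = Xr 69 t :=
  cj0 (by decide +kernel) (by decide +kernel) (by decide +kernel) (by decide +kernel) (by decide +kernel) u t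

theorem cj_51_70 (u t : K) : MulAut.conj (Xr 51 u) (Xr 70 t) = Xr 70 t :=
  cj0 (by decide +kernel) (by decide +kernel) (by decide +kernel) (by decide +kernel) (by decide +kernel) u t

theorem cj_51_71 (u t : K) : MulAut.conj (Xr 51 u) (Xr 71 t) = Xr 71 t :=
  cj0 (by decide +kernel) (by decide +kernel) (by decide +kernel) (by decide +kernel) (by decide +kernel) u t

theorem conj_51 (u a b c d e f g h : K) : Xr 51 u * ay a b c d e f g h * (Xr 51 u)⁻¹ = ay a b c d e (u * a + f) g (-(u * c) + h) := by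
  rw [← MulAut.conj_apply]
  simp only [ay, map_mul, map_one, cj_51_60, cj_51_63, cj_51_65, cj_51_66, cj_51_68, cj_51_69, cj_51_70, cj_51_71, mul_assoc, mg, sw_63_60, sw_65_60, sw_65_63, sw_66_60, sw_66_63, sw_66_65, sw_68_60, sw_68_63, sw_68_65, sw_68_66, sw_69_60, sw_69_63, sw_69_65, sw_69_66, sw_69_68, sw_70_60, sw_70_63, sw_70_65, sw_70_66, sw_70_68, sw_70_69, sw_71_60, sw_71_63, sw_71_65, sw_71_66, sw_71_68, sw_71_69, sw_71_70] <;> (refine cX ?_ (cX ?_ (cX ?_ (cX ?_ (cX ?_ (cX ?_ (cX ?_ (cX ?_ (rfl)))))))) <;> ring)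

theorem cj_53_60 (u t : K) : MulAut.conj (Xr 53 u) (Xr 60 t) = Xr 60 t * Xr 70 (u * t) :=
  cjp (by decide +kernel) (by decide +kernel) (by decide +kernel) (by decide +kernel) u t

theorem cj_53_63 (u t : K) : MulAut.conj (Xr 53 u) (Xr 63 t) = Xr 63 t * Xr 71 (u * t) :=
  cjp (by decide +kernel) (by decide +kernel) (by decide +kernel) (by decide +kernel) u t

theorem cj_53_65 (u t : K) : MulAut.conj (Xr 53 u) (Xr 65 t) = Xr 65 t :=
  cj0 (by decide +kernel) (by decide +kernel) (by decide +kernel) (by decide +kernel) (by decide +kernel) u t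

theorem cj_53_66 (u t : K) : MulAut.conj (Xr 53 u) (Xr 66 t) = Xr 66 t :=
  cj0 (by decide +kernel) (by decide +kernel) (by decide +kernel) (by decide +kernel) (by decide +kernel) u t

theorem cj_53_68 (u t : K) : MulAut.conj (Xr 53 u) (Xr 68 t) = Xr 68 t :=
  cj0 (by decide +kernel) (by decide +kernel) (by decide +kernel) (by decide +kernel) (by decide +kernel) u t

theorem cj_53_69 (u t : K) : MulAut.conj (Xr 53 u) (Xr 69 t) = Xr 69 t :=
  cj0 (by decide +kernel) (by decide +kernel) (by decide +kernel) (by decide +kernel) (by decide +kernel) u t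

theorem cj_53_70 (u t : K) : MulAut.conj (Xr 53 u) (Xr 70 t) = Xr 70 t :=
  cj0 (by decide +kernel) (by decide +kernel) (by decide +kernel) (by decide +kernel) (by decide +kernel) u t

theorem cj_53_71 (u t : K) : MulAut.conj (Xr 53 u) (Xr 71 t) = Xr 71 t :=
  cj0 (by decide +kernel) (by decide +kernel) (by decide +kernel) (by decide +kernel) (by decide +kernel) u t

theorem conj_53 (u a b c d e f g h : K) : Xr 53 u * ay a b c d e f g h * (Xr 53 u)⁻¹ = ay a b c d e f (u * a + g) (u * b + h) := by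
  rw [← MulAut.conj_apply]
  simp only [ay, map_mul, map_one, cj_53_60, cj_53_63, cj_53_65, cj_53_66, cj_53_68, cj_53_69, cj_53_70, cj_53_71, mul_assoc, mg, sw_63_60, sw_65_60, sw_65_63, sw_66_60, sw_66_63, sw_66_65, sw_68_60, sw_68_63, sw_68_65, sw_68_66, sw_69_60, sw_69_63, sw_69_65, sw_69_66, sw_69_68, sw_70_60, sw_70_63, sw_70_65, sw_70_66, sw_70_68, sw_70_69, sw_71_60, sw_71_63, sw_71_65, sw_71_66, sw_71_68, sw_71_69, sw_71_70] <;> (refine cX ?_ (cX ?_ (cX ?_ (cX ?_ (cX ?_ (cX ?_ (cX ?_ (cX ?_ (rfl)))))))) <;> ring)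


end Cfsg.Agent.Lib.Tw2E6Max
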