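import Cfsg.Agent.Lib.Twisted.WLevel

/-!
# Orders of parabolic subgroups in a group with a (B,N)-pair with unequal parameters
-/

set_option autoImplicit false
set_option linter.unusedSectionVars false

namespace Cfsg.Agent.Lib.Tw2E6Max

open Cfsg DoubleCoset
open Cfsg.Lie Cfsg.Agent.Lib.ChevBN.Elem Cfsg.Agent.Lib.ChevBN.Table
open Cfsg.Agent.Lib.ChevBN.Rel Cfsg.Agent.Lib.ChevBN.Pair Cfsg.Agent.Lib.ChevBN.Opp
open Cfsg.Agent.Lib.BNPair.Basic Cfsg.Agent.Lib.BNPair.Parabolic Cfsg.Agent.Lib.BNPair.CoxeterExchange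
open Cfsg.Agent.Lib.ChevOrder.BNCount Cfsg.Agent.Lib.ChevOrder.Chev
open Cfsg.Agent.Lib.ChevOrder.Cox Cfsg.Agent.Lib.ChevOrder.Level
open Cfsg.Agent.Lib.Twisted Cfsg.Agent.Lib.Twisted.WCox Cfsg.Agent.Lib.Twisted.WCount

section Generic

variable {G : Type*} [Group G] {P : Cfsg.BNPair G} {ι : Type*}
  (e : ι → G) (he : ∀ i, e i ∈ P.S)

/-- The elements of `par` are the classes of the elements of the closure. -/
theorem exists_rep_par {J : Set ι} {w : WW P} (hw : w ∈ par (ff e he) J) :
    ∃ n : P.N, (n : G) ∈ Subgroup.closure (e '' J) ∧ QuotientGroup.mk n = w := by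
  induction hw using Subgroup.closure_induction with
  | mem x hx =>
    obtain ⟨i, hi, rfl⟩ := hx
    exact ⟨⟨e i, P.subset (he i)⟩, Subgroup.subset_closure ⟨i, hi, rfl⟩, rfl⟩
  | one => exact ⟨1, Subgroup.one_mem _, rfl⟩
  | mul x y _ _ hx hy =>
    obtain ⟨n, hn, rfl⟩ := hx
    obtain ⟨n', hn', rfl⟩ := hy
    exact ⟨n * n', Subgroup.mul_mem _ hn hn', rfl⟩
  | inv x _ hx =>
    obtain ⟨n, hn, rfl⟩ := hx
    exact ⟨n⁻¹, Subgroup.inv_mem _ hn, rfl⟩

theorem mk_mem_par {J : Set ι} {n : P.N} (hn : (n : G) ∈ Subgroup.closure (e '' J)) :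
    (QuotientGroup.mk n : WW P) ∈ par (ff e he) J := by
  have key : ∀ (g : G) (hg : g ∈ Subgroup.closure (e '' J)), ∀ hN : g ∈ P.N,
      (QuotientGroup.mk (⟨g, hN⟩ : P.N) : WW P) ∈ par (ff e he) J := by
    intro g hg
    induction hg using Subgroup.closure_induction with
    | mem x hx =>
      obtain ⟨i, hi, rfl⟩ := hx
      intro hN
      exact Subgroup.subset_closure ⟨i, hi, rfl⟩
    | one =>
      intro hN
      exact Subgroup.one_mem _
    | mul x y hxc hyc hx hy =>
      intro hN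
      have hJ : e '' J ⊆ P.S := by
        rintro _ ⟨i, -, rfl⟩
        exact he i
      have hxN := closure_le_N hJ hxc
      have hyN := closure_le_N hJ hyc
      exact Subgroup.mul_mem _ (hx hxN) (hy hyN)
    | inv x hxc hx =>
      intro hN
      have hJ : e '' J ⊆ P.S := by
        rintro _ ⟨i, -, rfl⟩
        exact he i
      have hxN := closure_le_N hJ hxc
      exact Subgroup.inv_mem _ (hx hxN)
  exact key n hn n.2

/-- A double coset of an element of `par` lies in the parabolic subgroup. -/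
theorem C_le_parabolic {J : Set ι} {n : P.N} (hn : (QuotientGroup.mk n : WW P) ∈ par (ff e he) J)
    {g : G} (hg : g ∈ C P (n : G)) : g ∈ P.parabolic (e '' J) := by
  obtain ⟨n', hn', h⟩ := exists_rep_par e he hn
  have h1 : C P (n' : G) = C P (n : G) := C_eq_of_inv_mul_mem ((mk_eq _ _).1 h)
  rw [← h1] at hg
  exact mem_parabolic_of_C (closure_le_parabolic _ hn') hg

variable [Finite G] (hes : ∀ s ∈ P.S, ∃ i, e i = s) {Q : ι → ℕ}
  (hQ : ∀ i, Nat.card (C P (e i)) = Q i * Nat.card P.B)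

open Classical in
include hes hQ in
/-- The order of a parabolic subgroup. -/
theorem card_parabolic [Fintype (WW P)] (J : Set ι) :
    Nat.card ↥(P.parabolic (e '' J)) = Nat.card P.B * wsum (ff e he) (wtW P) J := by
  have hJ : e '' J ⊆ P.S := by
    rintro _ ⟨i, -, rfl⟩
    exact he i
  have hb : ∀ g : ↥(P.parabolic (e '' J)), ∃ n : P.N, (QuotientGroup.mk n : WW P) ∈ par (ff e he) J ∧
      (g : G) ∈ C P (n : G) := by
    intro g
    obtain ⟨n, hn, h⟩ := (mem_parabolic_iff hJ g.1).1 g.2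
    exact ⟨⟨n, closure_le_N hJ hn⟩, mk_mem_par e he hn, h⟩
  choose ν hν1 hν2 using hb
  let π : ↥(P.parabolic (e '' J)) → {w : WW P // w ∈ par (ff e he) J} := fun g => ⟨QuotientGroup.mk (ν g), hν1 g⟩
  have hfib : ∀ w : {w : WW P // w ∈ par (ff e he) J},
      Nat.card {g // π g = w} = Nat.card (C P ((Quotient.out w.1 : P.N) : G)) := by
    intro w
    have hout : (QuotientGroup.mk (Quotient.out w.1 : P.N) : WW P) = w.1 := QuotientGroup.out_eq' _
    have hout2 : (QuotientGroup.mk (Quotient.out w.1 : P.N) : WW P) ∈ par (ff e he) J := by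
      rw [hout]
      exact w.2
    refine Nat.card_congr ⟨fun x => ⟨x.1.1, ?_⟩, fun y => ⟨⟨y.1, C_le_parabolic e he hout2 y.2⟩, ?_⟩, ?_, ?_⟩
    · have h1 : (QuotientGroup.mk (ν x.1) : WW P) = QuotientGroup.mk (Quotient.out w.1 : P.N) := by
        rw [hout]
        exact congrArg Subtype.val x.2
      have h2 := C_eq_of_inv_mul_mem ((mk_eq _ _).1 h1)
      have h3 := hν2 x.1
      rw [h2] at h3
      exact h3
    · apply Subtype.ext
      have h2 := C_eq_of_mem_both (hν2 ⟨y.1, C_le_parabolic e he hout2 y.2⟩) y.2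
      have h3 := (C_eq_iff (ν _).2 (Quotient.out w.1 : P.N).2).1 h2
      show (QuotientGroup.mk (ν _) : WW P) = w.1
      exact ((mk_eq _ _).2 h3).trans hout
    · intro x
      rfl
    · intro y
      rfl
  have h1 : Nat.card ↥(P.parabolic (e '' J)) = Nat.card (Σ w : {w : WW P // w ∈ par (ff e he) J}, {g // π g = w}) :=
    Nat.card_congr (Equiv.sigmaFiberEquiv π).symm
  have hs : ∀ w : {w : WW P // w ∈ par (ff e he) J}, Nat.card {g // π g = w} = Nat.card P.B * wtW P w.1 := by
    intro w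
    rw [hfib w]
    have h2 := card_C_wt e he hes hQ (Quotient.out w.1 : P.N)
    rw [h2, QuotientGroup.out_eq' w.1, mul_comm]
  rw [h1, Nat.card_sigma, Finset.sum_congr rfl (fun w _ => hs w), wsum, Finset.mul_sum]
  exact (Finset.sum_subtype (Finset.univ.filter (· ∈ par (ff e he) J)) (p := (· ∈ par (ff e he) J))
    (fun x => by simp) (fun w => Nat.card P.B * wtW P w)).symm

end Generic

section Main

variable {D : ChevalleyDatum} {F : Type*} [Field F] {η : ℕ → ℕ → ℤ} {hR : Sys D F η} {hT : Tbl D}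
  {T : Tw hR.toAddRel} {Js cl : List (List ℕ)} {G1 : Subgroup (GL D.Idx F)} (I : Inst hR hT T Js cl G1)
  {ι : Type*} (J : ι → List ℕ) (hJ : ∀ i, J i ∈ Js) [Finite F] {P : Cfsg.BNPair ↥G1}
  (hB : P.B = (D.borelSubgroup F ⊓ G1).subgroupOf G1)
  (hN : P.N = (D.monomialSubgroup F ⊓ G1).subgroupOf G1)
  (hS : P.S = {g : ↥G1 | (g : GL D.Idx F) ∈ Set.range I.fd.n})
  (hsurj : ∀ J' ∈ Js, ∃ i, J i = J') (p : ι → ℕ) (hp : ∀ i, p i ∈ J i)
  {q : ℕ} {wx : ι → ℕ}
  (hcard : ∀ i, Nat.card ↥(gen hR.toAddRel (psiL D (J i)) ⊓ T.Fx) = q ^ wx i)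

/-- The parabolic subgroup attached to a list of letters. -/
noncomputable def parL (I : Inst hR hT T Js cl G1) (J : ι → List ℕ) (hJ : ∀ i, J i ∈ Js) (P : Cfsg.BNPair ↥G1)
    (js : List ι) : Subgroup ↥G1 :=
  P.parabolic (I.eP J hJ '' idxW js)

include hB hN hS hsurj hp hcard in
/-- The order of the parabolic subgroup attached to a chain. -/
theorem card_parL [DecidableEq ι] [Finite ι] {chain : List (ι × List ℤ × List WEntry)}
    (hc : checkWC D J wx p chain = true) :
    Nat.card ↥(parL I J hJ P (chain.map Prod.fst)) = Nat.card P.B * chainW q chain := by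
  classical
  have hfin : Finite ↥G1 := inferInstance
  have : Fintype (WW P) := Fintype.ofFinite _
  have hC : ∀ i, Nat.card (C P (I.eP J hJ i)) = q ^ wx i * Nat.card P.B := by
    intro i
    rw [← hcard i]
    exact I.fd.card_C_n I.fix I.U_le hB ⟨J i, hJ i⟩ _ rfl (I.eP_mem J hJ hS i)
  have hwt : WtData (I.fP J hJ hS) (LL P) (wtW P) (fun i => q ^ wx i) :=
    wtData _ (I.eP_mem J hJ hS) (I.eP_surj J hJ hS hsurj) hC
  have h2 := wsum_chain I J hJ hB hN hS hsurj p hp hwt (fun _ => rfl) hc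
  rw [parL, card_parabolic (I.eP J hJ) (I.eP_mem J hJ hS) (I.eP_surj J hJ hS hsurj) hC, ← h2]
  rfl

include hB hN hS hsurj hp hcard in
/-- The index of a parabolic subgroup attached to a chain. -/
theorem index_parL [DecidableEq ι] [Finite ι] {j : ι} {a₀ : List ℤ} {tbl : List WEntry}
    {rest : List (ι × List ℤ × List WEntry)} (hc : checkWC D J wx p ((j, a₀, tbl) :: rest) = true)
    (hall : ∀ i, i = j ∨ i ∈ rest.map Prod.fst) :
    (parL I J hJ P (rest.map Prod.fst)).index = (tbl.map fun e => q ^ e.2.2).sum := by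
  have hfin : Finite ↥G1 := inferInstance
  have hc' : checkWC D J wx p rest = true := by
    simp only [checkWC, Bool.and_eq_true] at hc
    exact hc.2
  have h1 := card_parL I J hJ hB hN hS hsurj p hp hcard hc
  have h2 := card_parL I J hJ hB hN hS hsurj p hp hcard hc'
  have htop : parL I J hJ P (((j, a₀, tbl) :: rest).map Prod.fst) = ⊤ := by
    rw [parL, eq_top_iff, ← parabolic_S (P := P)]
    apply parabolic_mono
    intro s hs
    obtain ⟨i, rfl⟩ := I.eP_surj J hJ hS hsurj s hs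
    refine ⟨i, ?_, rfl⟩
    show i ∈ ((j, a₀, tbl) :: rest).map Prod.fst
    rcases hall i with h | h
    · simp [h]
    · simp only [List.map_cons, List.mem_cons]
      exact Or.inr h
  rw [htop, Nat.card_congr (Subgroup.topEquiv (G := ↥G1)).toEquiv] at h1
  have h3 := Subgroup.card_mul_index (parL I J hJ P (rest.map Prod.fst))
  have hBpos : 0 < Nat.card P.B := Nat.card_pos
  have hcpos : 0 < chainW q rest := by
    by_contra h0
    have h00 : chainW q rest = 0 := by omega
    rw [h00, mul_zero] at h2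
    exact (Nat.card_pos (α := ↥(parL I J hJ P (rest.map Prod.fst)))).ne' h2
  rw [h1, h2] at h3
  simp only [chainW] at h3
  have h4 : Nat.card P.B * chainW q rest * (parL I J hJ P (rest.map Prod.fst)).index =
      Nat.card P.B * chainW q rest * (tbl.map fun e => q ^ e.2.2).sum := by
    rw [h3]
    ring
  exact Nat.eq_of_mul_eq_mul_left (Nat.mul_pos hBpos hcpos) h4

include hJ in
/-- Orbits of weights: every element of the Weyl group moves the base weight into the table. -/
theorem orbit_tbl {P : Cfsg.BNPair ↥G1} (hB : P.B = (D.borelSubgroup F ⊓ G1).subgroupOf G1)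
    (hN : P.N = (D.monomialSubgroup F ⊓ G1).subgroupOf G1)
    (hS : P.S = {g : ↥G1 | (g : GL D.Idx F) ∈ Set.range I.fd.n}) (hsurj : ∀ J' ∈ Js, ∃ i, J i = J')
    {js : List ι} {tbl : List WEntry} {a₀ : List ℤ} (hall : ∀ i, i ∈ js) (ha₀ : (lookupW tbl a₀).isSome = true)
    (hst : tbl.all (stepW D J js tbl) = true) (w : WW P) :
    ∃ e ∈ tbl, ∀ r : Fin D.nroots, func D a₀ (σP hR hT hB hN w r) = func D e.1 r := by
  obtain ⟨l, rfl, -⟩ := (I.setupP J hJ hS hsurj).ex w
  induction l using List.reverseRecOn with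
  | nil =>
    rcases h : lookupW tbl a₀ with _ | d
    · rw [h] at ha₀
      simp at ha₀
    · refine ⟨(a₀, d), lookupW_sound h, fun r => ?_⟩
      simp [pr]
  | append_singleton l i ih =>
    obtain ⟨e, he, h⟩ := ih
    rw [pr_append, pr_singleton]
    have hs := hst
    simp only [List.all_eq_true] at hs
    have h1 := hs e he
    simp only [stepW, Bool.and_eq_true, decide_eq_true_eq, List.all_eq_true] at h1
    have h2 := h1.2 i (hall i)
    rcases h3 : lookupW tbl (reflJ D (J i) e.1) with _ | d'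
    · rw [h3] at h2
      simp at h2
    · refine ⟨(reflJ D (J i) e.1, d'), lookupW_sound h3, fun r => ?_⟩
      rw [map_mul, Equiv.Perm.mul_apply, h]
      exact func_fP I J hJ hB hN hS e.1 i r

/-- Stabilisers of weights are the parabolic subgroups of the Weyl group. -/
theorem stab_par {P : Cfsg.BNPair ↥G1} (hB : P.B = (D.borelSubgroup F ⊓ G1).subgroupOf G1)
    (hN : P.N = (D.monomialSubgroup F ⊓ G1).subgroupOf G1)
    (hS : P.S = {g : ↥G1 | (g : GL D.Idx F) ∈ Set.range I.fd.n}) (hsurj : ∀ J' ∈ Js, ∃ i, J i = J')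
    (hp : ∀ i, p i ∈ J i) {js : List ι} {j : ι} (hjn : j ∉ js) {a₀ : List ℤ} {tbl : List WEntry}
    (hc : checkW D J wx js j (p j) a₀ tbl = true) [Finite ι]
    (hall : ∀ i, i = j ∨ i ∈ js) {w : WW P}
    (hf : ∀ r : Fin D.nroots, func D a₀ (σP hR hT hB hN w r) = func D a₀ r) :
    w ∈ par (I.fP J hJ hS) (idxW js) := by
  classical
  simp only [checkW, Bool.and_eq_true, decide_eq_true_eq, List.all_eq_true] at hc
  obtain ⟨⟨⟨⟨⟨⟨⟨hpr, hnn⟩, hpos⟩, hfx⟩, hb⟩, hnd⟩, hstep⟩, hdesc⟩ := hc
  have hs := I.setupP J hJ hS hsurj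
  have hltp : ∀ i, p i < D.rank := fun i => I.orth.lt _ (hJ i) _ (hp i)
  let α : ι → Fin D.nroots := fun i => alphaR hT ⟨p i, hltp i⟩
  have hKα : ∀ i w, LL P (I.fP J hJ hS i * w) < LL P w → ((σP hR hT hB hN w)⁻¹) (α i) ∉ PosR D :=
    fun i w hw => I.hK_P J hJ hB hN hS i w hw (r := α i) (mem_psiL (hp i))
  have hdiff : idxW (j :: js) \ {j} = idxW js := by
    ext i
    constructor
    · rintro ⟨h1, h2⟩
      have h3 : i ∈ j :: js := h1
      rcases List.mem_cons.1 h3 with h4 | h4
      · exact absurd h4 h2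
      · exact h4
    · intro h
      have h' : i ∈ js := h
      refine ⟨List.mem_cons_of_mem _ h', ?_⟩
      intro h5
      rw [Set.mem_singleton_iff] at h5
      rw [h5] at h'
      exact hjn h'
  have hpar : w ∈ par (I.fP J hJ hS) (idxW (j :: js)) := by
    obtain ⟨l, rfl, -⟩ := hs.ex w
    exact pr_mem_par fun i _ => by
      rcases hall i with h | h
      · show i ∈ j :: js
        simp [h]
      · exact List.mem_cons_of_mem _ h
  have := stab_mem hs (σP hR hT hB hN) α (PosR D) hKα (J := idxW (j :: js)) (j := j) (func D a₀) ?_ ?_ ?_ _ w hpar rfl hf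
  · rwa [hdiff] at this
  · intro r hr
    rw [func]
    apply Finset.sum_nonpos
    intro k _
    apply mul_nonpos_of_nonneg_of_nonpos
    · by_cases hk : k < a₀.length
      · rw [List.getD_eq_getElem _ _ hk]
        have := hnn _ (List.getElem_mem hk)
        simpa using this
      · rw [List.getD_eq_default _ _ (not_lt.1 hk)]
    · exact cr_nonpos hT hr k
  · show 0 < func D a₀ (alphaR hT ⟨p j, hltp j⟩)
    rw [func_simple hT a₀ (hltp j)]
    exact hpos
  · intro i hi hij r
    have hi' : i ∈ j :: js := hi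
    have hijs : i ∈ js := (List.mem_cons.1 hi').resolve_left hij
    rw [func_fP I J hJ hB hN hS, hfx i hijs]

end Main

end Cfsg.Agent.Lib.Tw2E6Max
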