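import Cfsg.Agent.Lib.Tw2E6Max.Cells

/-!
# A subgroup containing the rational points and an irrational element of the cells is everything
-/

set_option autoImplicit false
set_option maxRecDepth 1000000
set_option linter.unusedSectionVars false
set_option linter.unusedVariables false
set_option linter.unusedSimpArgs false

universe u

namespace Cfsg.Agent.Lib.Tw2E6Max

open Cfsg.Lie Cfsg.Agent.Lib.ChevBN.Elem Cfsg.Agent.Lib.ChevBN.Table Cfsg.Agent.Lib.ChevBN.Rel
open Cfsg.Agent.Lib.ChevBN.FastData Cfsg.Agent.Lib.ChevBN.Fix Cfsg.Agent.Lib.ChevBN.Collect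
open Cfsg.Agent.Lib.ChevBN.Opp Cfsg.Agent.Lib.ChevBN.Monomial Cfsg.Agent.Lib.ChevBN.Pair
open Cfsg.Agent.Lib.ChevBN.Torus
open Cfsg.Agent.Lib.Twisted Cfsg.Agent.Lib.Twisted.E6
open Cfsg.Agent.Lib.Chevalley.Tbl.E6 (sys comm)

variable {K : Type u} [Field K]

set_option quotPrecheck false in
/-- The root elements. -/
local notation "Xr" => X (sys (F := _)).toAddRel

theorem w2_add (φ : K →+* K) (s t : K) : w2 φ 42 37 s * w2 φ 42 37 t = w2 φ 42 37 (s + t) := by
  simp only [w2, mul_one, map_add]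
  rw [← X_mul, ← X_mul]
  have := (comm_p (K := K) (a := 37) (b := 42) (by decide +kernel) (by decide +kernel) (by decide) (by decide +kernel) (by decide +kernel) (φ s) t).eq
  calc Xr 42 s * Xr 37 (φ s) * (Xr 42 t * Xr 37 (φ t)) = Xr 42 s * (Xr 37 (φ s) * Xr 42 t) * Xr 37 (φ t) := by group
    _ = Xr 42 s * (Xr 42 t * Xr 37 (φ s)) * Xr 37 (φ t) := by rw [this]
    _ = _ := by group

theorem w2_zero (φ : K →+* K) : w2 φ 42 37 (0 : K) = 1 := by
  simp [w2, X_zero]

theorem w2_scale (φ : K →+* K) {β : K} (hβ : β ≠ 0) (hf : φ β = β) (t : K) :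
    hG (sys (F := K)).toAddRel 39 β * w2 φ 42 37 t * (hG (sys (F := K)).toAddRel 39 β)⁻¹ = w2 φ 42 37 (β⁻¹ * t) := by
  have h1 := hG_simple_conj (sys (F := K)) (i := 3) (s := 42) (by decide +kernel) (by decide +kernel) hβ t
  have h2 := hG_simple_conj (sys (F := K)) (i := 3) (s := 37) (by decide +kernel) (by decide +kernel) hβ (φ t)
  obtain ⟨-, -, -, e3, -, -⟩ := e_s
  rw [e3] at h1 h2
  have c1 : chevE6.cartan 3 42 = -1 := by decide +kernel
  have c2 : chevE6.cartan 3 37 = -1 := by decide +kernel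
  rw [c1, zpow_neg_one] at h1
  rw [c2, zpow_neg_one] at h2
  simp only [w2, mul_one, map_mul, map_inv₀, hf]
  rw [← h1, ← h2]
  group

section Main

variable [Fintype K] {q : ℕ} {φ : K →+* K} {T : Tw (sys (F := K)).toAddRel}
  (hφ : ∀ t, φ t = t ^ q) (hφ2 : ∀ t, φ (φ t) = t) (hρ : T.ρ = ρ0)
  (hτ : ∀ r t, T.τ r t = ((ε0 r : ℤ) : K) * φ t)
  (I : Inst sys tbl_chevE6 T Js cl (twistedE6 K q))

include hφ in
theorem hG39_MM {β : K} (hβ : φ β = β) : hG (sys (F := K)).toAddRel 39 β ∈ MM q φ := by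
  refine ⟨?_, ?_⟩
  · have h1 : ∀ {t : K}, φ t = t → Xr 39 t ∈ twistedE6 K q := fun ht => X_single_mem hφ (r := 39) (by decide +kernel) ht
    have h2 : ∀ {t : K}, φ t = t → Xr 32 t ∈ twistedE6 K q := fun ht => X_single_mem hφ (r := 32) (by decide +kernel) ht
    have n : ∀ {t : K}, φ t = t → nG (sys (F := K)).toAddRel 39 t ∈ twistedE6 K q := by
      intro t ht
      unfold nG
      have e : chevE6.neg 39 = 32 := by decide +kernel
      rw [e]
      exact Subgroup.mul_mem _ (Subgroup.mul_mem _ (h1 ht) (h2 (by simp [ht]))) (h1 ht)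
    unfold hG
    exact Subgroup.mul_mem _ (n hβ) (n (by simp))
  · show mapG chevE6 φ _ = MonoidHom.id _ _
    rw [mapG_hG φ (sys (F := K)).toAddRel (sys (F := K)).toAddRel, hβ]
    rfl

include hφ in
/-- All the elements of the orbit. -/
theorem w2_all {H : Subgroup (GL chevE6.Idx K)} (hM : MM q φ ≤ H) (hc : Nat.card (Ra φ) = q)
    (hK : Fintype.card K = q ^ 2) {τ₀ : K} (h0 : φ τ₀ ≠ τ₀) (hτ₀ : w2 φ 42 37 τ₀ ∈ H) (t : K) : w2 φ 42 37 t ∈ H := by
  let f : Ra φ × Ra φ → K := fun p => p.1.1 + p.2.1 * τ₀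
  have hinj : Function.Injective f := by
    rintro ⟨⟨a, ha⟩, ⟨b, hb⟩⟩ ⟨⟨a', ha'⟩, ⟨b', hb'⟩⟩ e
    simp only [f] at e
    have hbb : b = b' := by
      by_contra hne
      have hne' : b - b' ≠ 0 := sub_ne_zero.2 hne
      have e2 : τ₀ = (a' - a) / (b - b') := by
        field_simp
        linear_combination e
      apply h0
      rw [e2]
      simp only [map_div₀, map_sub, ha, ha', hb, hb']
    subst hbb
    have haa : a = a' := by linear_combination e
    subst haa
    rfl
  have hbij : Function.Bijective f := by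
    rw [Nat.bijective_iff_injective_and_card]
    refine ⟨hinj, ?_⟩
    rw [Nat.card_prod, hc, Nat.card_eq_fintype_card, hK]
    ring
  obtain ⟨⟨⟨a, ha⟩, ⟨b, hb⟩⟩, e⟩ := hbij.2 t
  simp only [f] at e
  rw [← e, ← w2_add]
  refine Subgroup.mul_mem _ (hM (w2_MM_42 hφ ha)) ?_
  by_cases hb0 : b = 0
  · rw [hb0, zero_mul, w2_zero]
    exact Subgroup.one_mem _
  · have h3 := w2_scale φ (inv_ne_zero hb0) (by rw [map_inv₀, hb]) τ₀
    rw [inv_inv] at h3
    rw [← h3]
    exact Subgroup.mul_mem _ (Subgroup.mul_mem _ (hM (hG39_MM hφ (by rw [map_inv₀, hb]))) hτ₀)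
      (Subgroup.inv_mem _ (hM (hG39_MM hφ (by rw [map_inv₀, hb]))))

include hφ hρ hτ I in
/-- The main step. -/
theorem big {H : Subgroup (GL chevE6.Idx K)} (hM : MM q φ ≤ H) (hc : Nat.card (Ra φ) = q)
    (hK : Fintype.card K = q ^ 2) {a b c d f g h : K} (ha : φ a = a) (hb : φ b = b) (hc' : φ c = c) (hf : φ f = f)
    (hg : φ g = g) (hh : φ h = h) (hd : φ d ≠ d) (hy : ay a b c d (φ d) f g h ∈ H) :
    twistedE6 K q ≤ H := by
  have hz : ay a b c 0 0 f g h ∈ MM q φ := by
    have e : ay a b c 0 0 f g h = Xr 60 a * (Xr 63 b * (Xr 65 c * (Xr 69 f * (Xr 70 g * Xr 71 h)))) := by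
      simp [ay, X_zero]
    rw [e]
    exact Subgroup.mul_mem _ (X_fix_M hρ hτ I (by decide +kernel) (by decide +kernel) (by decide +kernel) ha)
      (Subgroup.mul_mem _ (X_fix_M hρ hτ I (by decide +kernel) (by decide +kernel) (by decide +kernel) hb)
      (Subgroup.mul_mem _ (X_fix_M hρ hτ I (by decide +kernel) (by decide +kernel) (by decide +kernel) hc')
      (Subgroup.mul_mem _ (X_fix_M hρ hτ I (by decide +kernel) (by decide +kernel) (by decide +kernel) hf)
      (Subgroup.mul_mem _ (X_fix_M hρ hτ I (by decide +kernel) (by decide +kernel) (by decide +kernel) hg)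
        (X_fix_M hρ hτ I (by decide +kernel) (by decide +kernel) (by decide +kernel) hh)))))
  have hw : Xr 66 d * (Xr 68 (φ d) * 1) ∈ H := by
    have e : ay a b c d (φ d) f g h = ay a b c 0 0 f g h * (Xr 66 d * (Xr 68 (φ d) * 1)) := by
      have e2 : Xr 66 d * (Xr 68 (φ d) * 1) = ay 0 0 0 d (φ d) 0 0 0 := by simp [ay, X_zero]
      rw [e2, ay_mul]
      exact ay_congr (by ring) (by ring) (by ring) (by ring) (by ring) (by ring) (by ring) (by ring)
    rw [e] at hy
    exact (Subgroup.mul_mem_cancel_left _ (hM hz)).1 hy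
  have hn := word_MM (K := K) (q := q) (φ := φ) I (w := [[0, 5], [3], [2, 4], [1], [3], [2, 4], [0, 5], [2, 4]]) (by decide)
  have h1 := Subgroup.mul_mem _ (Subgroup.mul_mem _ (hM hn) hw) (Subgroup.inv_mem _ (hM hn))
  have hτ₀ : w2 φ 42 37 (-d) ∈ H := by
    have e : ∀ (A x y : GL chevE6.Idx K), A * (x * (y * 1)) * A⁻¹ = (A * x * A⁻¹) * (A * y * A⁻¹) := by
      intro A x y
      group
    rw [e, cw (r := 66) (r' := 42) (s := -1) (by decide +kernel) (by decide +kernel) (by decide +kernel) (by decide +kernel),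
      cw (r := 68) (r' := 37) (s := -1) (by decide +kernel) (by decide +kernel) (by decide +kernel) (by decide +kernel)] at h1
    have e2 : w2 φ 42 37 (-d) = Xr 42 (((-1 : ℤ) : K) * d) * Xr 37 (((-1 : ℤ) : K) * φ d) := by
      simp [w2]
    rw [e2]
    exact h1
  have hall := w2_all hφ hM hc hK (τ₀ := -d) (by rw [map_neg]; exact fun e => hd (neg_injective e)) hτ₀
  have h56 : ∀ t : K, w2 φ 56 36 t ∈ H := by
    intro t
    have hn := word_MM (K := K) (q := q) (φ := φ) I (w := [[2, 4], [0, 5]]) (by decide)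
    have h1 := Subgroup.mul_mem _ (Subgroup.mul_mem _ (hM hn) (hall t)) (Subgroup.inv_mem _ (hM hn))
    have e : ∀ (A x y : GL chevE6.Idx K), A * (x * (y * 1)) * A⁻¹ = (A * x * A⁻¹) * (A * y * A⁻¹) := by
      intro A x y
      group
    rw [w2, e, cw (r := 42) (r' := 56) (s := 1) (by decide +kernel) (by decide +kernel) (by decide +kernel) (by decide +kernel),
      cw (r := 37) (r' := 36) (s := 1) (by decide +kernel) (by decide +kernel) (by decide +kernel) (by decide +kernel)] at h1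
    have e2 : w2 φ 56 36 t = Xr 56 (((1 : ℤ) : K) * t) * Xr 36 (((1 : ℤ) : K) * φ t) := by
      simp [w2]
    rw [e2]
    exact h1
  have h29 : ∀ t : K, w2 φ 29 34 t ∈ H := by
    intro t
    have hn := word_MM (K := K) (q := q) (φ := φ) I (w := [[2, 4]]) (by decide)
    have h1 := Subgroup.mul_mem _ (Subgroup.mul_mem _ (hM hn) (hall (-t))) (Subgroup.inv_mem _ (hM hn))
    have e : ∀ (A x y : GL chevE6.Idx K), A * (x * (y * 1)) * A⁻¹ = (A * x * A⁻¹) * (A * y * A⁻¹) := by
      intro A x y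
      group
    rw [w2, e, cw (r := 42) (r' := 29) (s := -1) (by decide +kernel) (by decide +kernel) (by decide +kernel) (by decide +kernel),
      cw (r := 37) (r' := 34) (s := -1) (by decide +kernel) (by decide +kernel) (by decide +kernel) (by decide +kernel)] at h1
    have e2 : w2 φ 29 34 t = Xr 29 (((-1 : ℤ) : K) * -t) * Xr 34 (((-1 : ℤ) : K) * φ (-t)) := by
      simp [w2]
    rw [e2]
    exact h1
  have h15 : ∀ t : K, w2 φ 15 35 t ∈ H := by
    intro t
    have hn := word_MM (K := K) (q := q) (φ := φ) I (w := [[2, 4], [0, 5], [2, 4]]) (by decide)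
    have h1 := Subgroup.mul_mem _ (Subgroup.mul_mem _ (hM hn) (hall (-t))) (Subgroup.inv_mem _ (hM hn))
    have e : ∀ (A x y : GL chevE6.Idx K), A * (x * (y * 1)) * A⁻¹ = (A * x * A⁻¹) * (A * y * A⁻¹) := by
      intro A x y
      group
    rw [w2, e, cw (r := 42) (r' := 15) (s := -1) (by decide +kernel) (by decide +kernel) (by decide +kernel) (by decide +kernel),
      cw (r := 37) (r' := 35) (s := -1) (by decide +kernel) (by decide +kernel) (by decide +kernel) (by decide +kernel)] at h1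
    have e2 : w2 φ 15 35 t = Xr 15 (((-1 : ℤ) : K) * -t) * Xr 35 (((-1 : ℤ) : K) * φ (-t)) := by
      simp [w2]
    rw [e2]
    exact h1
  refine (Subgroup.closure_le _).2 ?_
  intro g₀ hg₀
  have hs : ∀ {r : ℕ}, r ∈ [e6p2, e6m2, e6p4, e6m4] → ∀ {t : K}, φ t = t → Xr r t ∈ H := by
    intro r hr t ht
    refine hM ⟨X_single_mem hφ hr ht, ?_⟩
    show mapG chevE6 φ _ = MonoidHom.id _ _
    rw [mapG_X φ (sys (F := K)).toAddRel (sys (F := K)).toAddRel, ht]
    rfl
  rcases gen_form hφ hg₀ with ⟨t, ht, rfl | rfl | rfl | rfl⟩ | ⟨t, rfl | rfl | rfl | rfl⟩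
  · exact hs (by decide +kernel) ht
  · exact hs (by decide +kernel) ht
  · exact hs (by decide +kernel) ht
  · exact hs (by decide +kernel) ht
  · exact h56 t
  · exact h15 t
  · exact hall t
  · exact h29 t

end Main

end Cfsg.Agent.Lib.Tw2E6Max
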