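import Cfsg.Agent.Lib.Tw2E6Max.Cent

/-!
# The elements of the long root class outside the rational points, by cells
-/

set_option autoImplicit false
set_option maxRecDepth 1000000
set_option linter.unusedSectionVars false
set_option linter.unusedVariables false
set_option linter.unusedSimpArgs false

universe u

namespace Cfsg.Agent.Lib.Tw2E6Max

open Cfsg.Lie Cfsg.Agent.Lib.ChevBN.Elem Cfsg.Agent.Lib.ChevBN.Table Cfsg.Agent.Lib.ChevBN.Rel
open Cfsg.Agent.Lib.ChevBN.FastData Cfsg.Agent.Lib.ChevBN.Fix Cfsg.Agent.Lib.ChevBN.Collect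
open Cfsg.Agent.Lib.ChevBN.Opp Cfsg.Agent.Lib.ChevBN.Monomial Cfsg.Agent.Lib.ChevBN.Pair
open Cfsg.Agent.Lib.Twisted Cfsg.Agent.Lib.Twisted.E6
open Cfsg.Agent.Lib.Chevalley.Tbl.E6 (sys comm)

variable {K : Type u} [Field K]

set_option quotPrecheck false in
/-- The root elements. -/
local notation "Xr" => X (sys (F := _)).toAddRel

theorem conj_step (A R y : GL chevE6.Idx K) : (A * R) * y * (A * R)⁻¹ = A * (R * y * R⁻¹) * A⁻¹ := by group

theorem conj_one' (y : GL chevE6.Idx K) : (1 : GL chevE6.Idx K) * y * 1⁻¹ = y := by simp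

theorem base60 (c : K) : ay c 0 0 0 0 0 0 0 = Xr 60 c := by simp [ay, X_zero]
theorem base63 (c : K) : ay 0 c 0 0 0 0 0 0 = Xr 63 c := by simp [ay, X_zero]
theorem base65 (c : K) : ay 0 0 c 0 0 0 0 0 = Xr 65 c := by simp [ay, X_zero]

theorem cell1 (c a b τ x d e : K) :
    (Xr 46 a * (Xr 47 b * (Xr 48 τ * (Xr 50 x * (Xr 51 d * (Xr 53 e * 1)))))) * Xr 60 c *
        (Xr 46 a * (Xr 47 b * (Xr 48 τ * (Xr 50 x * (Xr 51 d * (Xr 53 e * 1))))))⁻¹ =
      ay c (a * c) (b * c) (τ * c) (x * c) (d * c) (e * c) (c * (τ * x - b * d + a * e)) := by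
  rw [← base60]
  simp only [conj_step, conj_one', conj_46, conj_47, conj_48, conj_50, conj_51, conj_53]
  exact ay_congr (by ring) (by ring) (by ring) (by ring) (by ring) (by ring) (by ring) (by ring)

theorem cell2 (c a τ x b d : K) :
    (Xr 39 a * (Xr 40 τ * (Xr 43 (-x) * (Xr 44 b * (Xr 53 d * 1))))) * Xr 63 c *
        (Xr 39 a * (Xr 40 τ * (Xr 43 (-x) * (Xr 44 b * (Xr 53 d * 1)))))⁻¹ =
      ay 0 c (a * c) (τ * c) (x * c) (-(b * c)) (-(c * (τ * x + a * b))) (d * c) := by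
  rw [← base63]
  simp only [conj_step, conj_one', conj_39, conj_40, conj_43, conj_44, conj_53]
  exact ay_congr (by ring) (by ring) (by ring) (by ring) (by ring) (by ring) (by ring) (by ring)

theorem cell3 (c τ x a b : K) :
    (Xr 37 τ * (Xr 42 x * (Xr 44 a * (Xr 51 b * 1)))) * Xr 65 c *
        (Xr 37 τ * (Xr 42 x * (Xr 44 a * (Xr 51 b * 1))))⁻¹ =
      ay 0 0 c (τ * c) (x * c) (c * (τ * x)) (-(a * c)) (-(b * c)) := by
  rw [← base65]
  simp only [conj_step, conj_one', conj_37, conj_42, conj_44, conj_51]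
  exact ay_congr (by ring) (by ring) (by ring) (by ring) (by ring) (by ring) (by ring) (by ring)

/-- The class of the long root elements. -/
def EE (q : ℕ) (φ : K →+* K) : Set (GL chevE6.Idx K) :=
  {x | ∃ g ∈ twistedE6 K q, ∃ t : K, φ t = t ∧ t ≠ 0 ∧ x = g * Xr 71 t * g⁻¹}

/-- The rational elements. -/
abbrev Ra (φ : K →+* K) := {t : K // φ t = t}
/-- The nonzero rational elements. -/
abbrev Ru (φ : K →+* K) := {t : K // φ t = t ∧ t ≠ 0}
/-- The irrational elements. -/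
abbrev Nr (φ : K →+* K) := {t : K // φ t ≠ t}

/-- The parameters of the cells. -/
abbrev Cell (φ : K →+* K) := (Ru φ × Ra φ × Ra φ × Nr φ × Ra φ × Ra φ) ⊕ (Ru φ × Ra φ × Nr φ × Ra φ × Ra φ) ⊕ (Ru φ × Nr φ × Ra φ × Ra φ)

/-- The elements of the cells. -/
noncomputable def Phi (φ : K →+* K) : Cell φ → GL chevE6.Idx K
  | Sum.inl (c, a, b, τ, d, e) =>
      ay c.1 (a.1 * c.1) (b.1 * c.1) (τ.1 * c.1) (φ τ.1 * c.1) (d.1 * c.1) (e.1 * c.1)
        (c.1 * (τ.1 * φ τ.1 - b.1 * d.1 + a.1 * e.1))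
  | Sum.inr (Sum.inl (c, a, τ, b, d)) =>
      ay 0 c.1 (a.1 * c.1) (τ.1 * c.1) (φ τ.1 * c.1) (-(b.1 * c.1)) (-(c.1 * (τ.1 * φ τ.1 + a.1 * b.1))) (d.1 * c.1)
  | Sum.inr (Sum.inr (c, τ, a, b)) =>
      ay 0 0 c.1 (τ.1 * c.1) (φ τ.1 * c.1) (c.1 * (τ.1 * φ τ.1)) (-(a.1 * c.1)) (-(b.1 * c.1))

theorem Phi_inj (φ : K →+* K) : Function.Injective (Phi φ) := by
  have sub : ∀ {P : K → Prop} {x y : {t : K // P t}}, x.1 = y.1 → x = y := fun h => Subtype.ext h
  rintro (⟨c, a, b, τ, d, e⟩ | ⟨c, a, τ, b, d⟩ | ⟨c, τ, a, b⟩) (⟨c', a', b', τ', d', e'⟩ | ⟨c', a', τ', b', d'⟩ | ⟨c', τ', a', b'⟩) h <;>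
    simp only [Phi] at h <;> obtain ⟨h1, h2, h3, h4, h5, h6, h7, h8⟩ := ay_inj h
  · have hc := c.2.2
    have e0 : c.1 = c'.1 := h1
    rw [← e0] at h2 h3 h4 h5 h6 h7 h8
    have e1 := mul_right_cancel₀ hc h2
    have e2 := mul_right_cancel₀ hc h3
    have e3 := mul_right_cancel₀ hc h4
    have e4 := mul_right_cancel₀ hc h6
    have e5 := mul_right_cancel₀ hc h7
    rw [Subtype.ext e0, Subtype.ext e1, Subtype.ext e2, Subtype.ext e3, Subtype.ext e4, Subtype.ext e5]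
  · exact absurd h1 c.2.2
  · exact absurd h1 c.2.2
  · exact absurd h1.symm c'.2.2
  · have hc := c.2.2
    have e0 : c.1 = c'.1 := h2
    rw [← e0] at h3 h4 h5 h6 h7 h8
    have e1 := mul_right_cancel₀ hc h3
    have e2 := mul_right_cancel₀ hc h4
    have e3 := mul_right_cancel₀ hc (neg_injective h6)
    have e4 := mul_right_cancel₀ hc h8
    rw [Subtype.ext e0, Subtype.ext e1, Subtype.ext e2, Subtype.ext e3, Subtype.ext e4]
  · exact absurd h2 c.2.2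
  · exact absurd h1.symm c'.2.2
  · exact absurd h2.symm c'.2.2
  · have hc := c.2.2
    have e0 : c.1 = c'.1 := h3
    rw [← e0] at h4 h5 h6 h7 h8
    have e1 := mul_right_cancel₀ hc h4
    have e2 := mul_right_cancel₀ hc (neg_injective h7)
    have e3 := mul_right_cancel₀ hc (neg_injective h8)
    rw [Subtype.ext e0, Subtype.ext e1, Subtype.ext e2, Subtype.ext e3]

/-- The form of the elements of the cells. -/
theorem Phi_form {φ : K →+* K} (hφ2 : ∀ t, φ (φ t) = t) (y : Cell φ) :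
    ∃ a b c d f g h : K, φ a = a ∧ φ b = b ∧ φ c = c ∧ φ f = f ∧ φ g = g ∧ φ h = h ∧ φ d ≠ d ∧
      Phi φ y = ay a b c d (φ d) f g h := by
  have nr : ∀ (τ : Nr φ) (c : Ru φ), φ (τ.1 * c.1) ≠ τ.1 * c.1 := by
    intro τ c h
    rw [map_mul, c.2.1] at h
    exact τ.2 (mul_right_cancel₀ c.2.2 h)
  rcases y with ⟨c, a, b, τ, d, e⟩ | ⟨c, a, τ, b, d⟩ | ⟨c, τ, a, b⟩
  · refine ⟨c.1, a.1 * c.1, b.1 * c.1, τ.1 * c.1, d.1 * c.1, e.1 * c.1, c.1 * (τ.1 * φ τ.1 - b.1 * d.1 + a.1 * e.1), c.2.1, ?_, ?_, ?_, ?_, ?_, nr τ c, ?_⟩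
    all_goals first
      | (simp only [Phi]; refine ay_congr rfl rfl rfl rfl ?_ rfl rfl rfl; rw [map_mul, c.2.1])
      | ((simp only [map_zero, map_mul, map_add, map_sub, map_neg, c.2.1, a.2, b.2, d.2, e.2, hφ2]) <;> try ring)
  · refine ⟨0, c.1, a.1 * c.1, τ.1 * c.1, -(b.1 * c.1), -(c.1 * (τ.1 * φ τ.1 + a.1 * b.1)), d.1 * c.1, map_zero φ, c.2.1, ?_, ?_, ?_, ?_, nr τ c, ?_⟩
    all_goals first
      | (simp only [Phi]; refine ay_congr rfl rfl rfl rfl ?_ rfl rfl rfl; rw [map_mul, c.2.1])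
      | ((simp only [map_zero, map_mul, map_add, map_sub, map_neg, c.2.1, a.2, b.2, d.2, hφ2]) <;> try ring)
  · refine ⟨0, 0, c.1, τ.1 * c.1, c.1 * (τ.1 * φ τ.1), -(a.1 * c.1), -(b.1 * c.1), map_zero φ, map_zero φ, c.2.1, ?_, ?_, ?_, nr τ c, ?_⟩
    all_goals first
      | (simp only [Phi]; refine ay_congr rfl rfl rfl rfl ?_ rfl rfl rfl; rw [map_mul, c.2.1])
      | ((simp only [map_zero, map_mul, map_add, map_sub, map_neg, c.2.1, a.2, b.2, hφ2]) <;> try ring)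

section Main

variable [Fintype K] {q : ℕ} {φ : K →+* K} {T : Tw (sys (F := K)).toAddRel}
  (hφ : ∀ t, φ t = t ^ q) (hφ2 : ∀ t, φ (φ t) = t) (hρ : T.ρ = ρ0)
  (hτ : ∀ r t, T.τ r t = ((ε0 r : ℤ) : K) * φ t)
  (I : Inst sys tbl_chevE6 T Js cl (twistedE6 K q))

include hφ2 hρ hτ I in
theorem w2_G {a b : ℕ} (ha : chevE6.IsPosRoot a) (hb : chevE6.IsPosRoot b) (h1 : ρ0 a = b) (h2 : ε0 a = 1)
    (h3 : ρ0 b = a) (h4 : ε0 b = 1) (h5 : b ≠ a) (h6 : b ≠ chevE6.neg a)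
    (h7 : chevE6.commTerms a b = []) (t : K) : w2 φ a b t ∈ twistedE6 K q := by
  refine I.U_le ⟨?_, w2_fix hρ hτ hφ2 ha.1 hb.1 h1 h2 h3 h4 h5 h6 h7 t⟩
  unfold w2
  exact Subgroup.mul_mem _ (X_mem_U sys tbl_chevE6 ha t) (Subgroup.mul_mem _ (X_mem_U sys tbl_chevE6 hb _) (Subgroup.one_mem _))

include hφ2 hρ hτ I in
theorem z40_G (t : K) : Xr 40 t * (Xr 43 (-φ t) * 1) ∈ twistedE6 K q := by
  have ha : chevE6.IsPosRoot 40 := by decide +kernel
  have hb : chevE6.IsPosRoot 43 := by decide +kernel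
  have ma := Tw.X_mem_group (hA := (sys (F := K)).toAddRel) ha.1 t
  have mb := Tw.X_mem_group (hA := (sys (F := K)).toAddRel) hb.1 (-φ t)
  refine I.U_le ⟨Subgroup.mul_mem _ (X_mem_U sys tbl_chevE6 ha t) (Subgroup.mul_mem _ (X_mem_U sys tbl_chevE6 hb _) (Subgroup.one_mem _)), Subgroup.mul_mem _ ma (Subgroup.mul_mem _ mb (Subgroup.one_mem _)), ?_⟩
  rw [mul_one, T.s_mul _ ma _ mb, T.s_X 40 ha.1, T.s_X 43 hb.1, hρ, hτ, hτ]
  have e1 : ρ0 40 = 43 := by decide +kernel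
  have e2 : ρ0 43 = 40 := by decide +kernel
  have e3 : ε0 40 = -1 := by decide +kernel
  have e4 : ε0 43 = -1 := by decide +kernel
  rw [e1, e2, e3, e4]
  have e5 : (((-1 : ℤ) : K) * φ t) = -φ t := by simp
  have e6 : (((-1 : ℤ) : K) * φ (-φ t)) = t := by simp [hφ2]
  rw [e5, e6]
  exact (comm_p hb.1 ha.1 (by decide) (by decide +kernel) (by decide +kernel) _ _).eq

include hρ hτ hφ2 I in
/-- The elements of the cells lie in the class. -/
theorem Phi_EE (y : Cell φ) : Phi φ y ∈ EE q φ := by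
  have wG : ∀ {w : List (List ℕ)}, (∀ J ∈ w, J ∈ Js) → prodA sys w.flatten ∈ twistedE6 K q := fun {w} hw => I.prodA_mem hw
  rcases y with ⟨c, a, b, τ, d, e⟩ | ⟨c, a, τ, b, d⟩ | ⟨c, τ, a, b⟩
  · simp only [Phi]
    rw [← cell1]
    have hw := wG (w := [[1], [3], [2, 4], [3], [1]]) (by decide)
    have hc := cw (K := K) (l := [1, 3, 2, 4, 3, 1]) (r := 71) (r' := 60) (s := 1) (by decide +kernel) (by decide +kernel)
      (by decide +kernel) (by decide +kernel) c.1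
    have hg : Xr 46 a.1 * (Xr 47 b.1 * (Xr 48 τ.1 * (Xr 50 (φ τ.1) * (Xr 51 d.1 * (Xr 53 e.1 * 1))))) ∈ twistedE6 K q := by
      have e1 : Xr 46 a.1 * (Xr 47 b.1 * (Xr 48 τ.1 * (Xr 50 (φ τ.1) * (Xr 51 d.1 * (Xr 53 e.1 * 1))))) =
          Xr 46 a.1 * (Xr 47 b.1 * (w2 φ 48 50 τ.1 * (Xr 51 d.1 * Xr 53 e.1))) := by
        simp only [w2, mul_assoc, mul_one]
      rw [e1]
      refine Subgroup.mul_mem _ (X_fix_G hρ hτ I (by decide +kernel) (by decide +kernel) (by decide +kernel) a.2)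
        (Subgroup.mul_mem _ (X_fix_G hρ hτ I (by decide +kernel) (by decide +kernel) (by decide +kernel) b.2)
        (Subgroup.mul_mem _ (w2_G hφ2 hρ hτ I (by decide +kernel) (by decide +kernel) (by decide +kernel) (by decide +kernel) (by decide +kernel) (by decide +kernel) (by decide) (by decide +kernel) (by decide +kernel) τ.1)
        (Subgroup.mul_mem _ (X_fix_G hρ hτ I (by decide +kernel) (by decide +kernel) (by decide +kernel) d.2)
          (X_fix_G hρ hτ I (by decide +kernel) (by decide +kernel) (by decide +kernel) e.2))))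
    refine ⟨_, Subgroup.mul_mem _ hg hw, c.1, c.2.1, c.2.2, ?_⟩
    have e2 : Xr 60 c.1 = prodA sys [1, 3, 2, 4, 3, 1] * Xr 71 c.1 * (prodA sys [1, 3, 2, 4, 3, 1])⁻¹ := by
      rw [hc]; simp
    rw [e2]
    show _ = _ * prodA sys [1, 3, 2, 4, 3, 1] * _ * (_ * prodA sys [1, 3, 2, 4, 3, 1])⁻¹
    group
  · simp only [Phi]
    rw [← cell2]
    have hw := wG (w := [[3], [2, 4], [3], [1]]) (by decide)
    have hc := cw (K := K) (l := [3, 2, 4, 3, 1]) (r := 71) (r' := 63) (s := -1) (by decide +kernel) (by decide +kernel)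
      (by decide +kernel) (by decide +kernel) (-c.1)
    have hg : Xr 39 a.1 * (Xr 40 τ.1 * (Xr 43 (-φ τ.1) * (Xr 44 b.1 * (Xr 53 d.1 * 1)))) ∈ twistedE6 K q := by
      have e1 : Xr 39 a.1 * (Xr 40 τ.1 * (Xr 43 (-φ τ.1) * (Xr 44 b.1 * (Xr 53 d.1 * 1)))) =
          Xr 39 a.1 * ((Xr 40 τ.1 * (Xr 43 (-φ τ.1) * 1)) * (Xr 44 b.1 * Xr 53 d.1)) := by
        simp only [mul_assoc, mul_one]
      rw [e1]
      refine Subgroup.mul_mem _ (X_fix_G hρ hτ I (by decide +kernel) (by decide +kernel) (by decide +kernel) a.2)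
        (Subgroup.mul_mem _ (z40_G hφ2 hρ hτ I τ.1)
        (Subgroup.mul_mem _ (X_fix_G hρ hτ I (by decide +kernel) (by decide +kernel) (by decide +kernel) b.2)
          (X_fix_G hρ hτ I (by decide +kernel) (by decide +kernel) (by decide +kernel) d.2)))
    refine ⟨_, Subgroup.mul_mem _ hg hw, -c.1, by rw [map_neg, c.2.1], neg_ne_zero.2 c.2.2, ?_⟩
    have e2 : Xr 63 c.1 = prodA sys [3, 2, 4, 3, 1] * Xr 71 (-c.1) * (prodA sys [3, 2, 4, 3, 1])⁻¹ := by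
      rw [hc]; simp
    rw [e2]
    show _ = _ * prodA sys [3, 2, 4, 3, 1] * _ * (_ * prodA sys [3, 2, 4, 3, 1])⁻¹
    group
  · simp only [Phi]
    rw [← cell3]
    have hw := wG (w := [[2, 4], [3], [1]]) (by decide)
    have hc := cw (K := K) (l := [2, 4, 3, 1]) (r := 71) (r' := 65) (s := 1) (by decide +kernel) (by decide +kernel)
      (by decide +kernel) (by decide +kernel) c.1
    have hg : Xr 37 τ.1 * (Xr 42 (φ τ.1) * (Xr 44 a.1 * (Xr 51 b.1 * 1))) ∈ twistedE6 K q := by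
      have e1 : Xr 37 τ.1 * (Xr 42 (φ τ.1) * (Xr 44 a.1 * (Xr 51 b.1 * 1))) =
          w2 φ 37 42 τ.1 * (Xr 44 a.1 * Xr 51 b.1) := by
        simp only [w2, mul_assoc, mul_one]
      rw [e1]
      refine Subgroup.mul_mem _ (w2_G hφ2 hρ hτ I (by decide +kernel) (by decide +kernel) (by decide +kernel) (by decide +kernel) (by decide +kernel) (by decide +kernel) (by decide) (by decide +kernel) (by decide +kernel) τ.1)
        (Subgroup.mul_mem _ (X_fix_G hρ hτ I (by decide +kernel) (by decide +kernel) (by decide +kernel) a.2)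
          (X_fix_G hρ hτ I (by decide +kernel) (by decide +kernel) (by decide +kernel) b.2))
    refine ⟨_, Subgroup.mul_mem _ hg hw, c.1, c.2.1, c.2.2, ?_⟩
    have e2 : Xr 65 c.1 = prodA sys [2, 4, 3, 1] * Xr 71 c.1 * (prodA sys [2, 4, 3, 1])⁻¹ := by
      rw [hc]; simp
    rw [e2]
    show _ = _ * prodA sys [2, 4, 3, 1] * _ * (_ * prodA sys [2, 4, 3, 1])⁻¹
    group

/-- The number of parameters. -/
theorem card_cell (hq : 1 ≤ q) (h1 : Nat.card (Ra φ) = q) (h2 : Nat.card (Nr φ) = q ^ 2 - q) :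
    Nat.card (Cell φ) = Nat.card (Ru φ) * ((q ^ 4 + q ^ 3 + q ^ 2) * (q ^ 2 - q)) := by
  simp only [Nat.card_sum, Nat.card_prod, h1, h2]
  ring

end Main

end Cfsg.Agent.Lib.Tw2E6Max
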