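import Cfsg.Agent.Lib.Tw2E6Max.Wy

/-!
# An element of the twisted group centralising the long root elements of the rational points is trivial
-/

set_option autoImplicit false
set_option maxRecDepth 1000000
set_option linter.unusedSectionVars false
set_option linter.unusedVariables false
set_option linter.unusedSimpArgs false

universe u

namespace Cfsg.Agent.Lib.Tw2E6Max

open Cfsg.Lie Cfsg.Agent.Lib.ChevBN.Elem Cfsg.Agent.Lib.ChevBN.Table Cfsg.Agent.Lib.ChevBN.Rel
open Cfsg.Agent.Lib.ChevBN.FastData Cfsg.Agent.Lib.ChevBN.Fix Cfsg.Agent.Lib.ChevBN.Collect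
open Cfsg.Agent.Lib.ChevBN.Opp Cfsg.Agent.Lib.ChevBN.Monomial Cfsg.Agent.Lib.ChevBN.Pair
open Cfsg.Agent.Lib.ChevBN.Torus Cfsg.Agent.Lib.ChevBN.Stmts Cfsg.Agent.Lib.ChevBN.BruhatForm
open Cfsg.Agent.Lib.ChevOrder.Chev Cfsg.Agent.Lib.BNPair.Basic Cfsg.Agent.Lib.BNPair.Parabolic
open Cfsg.Agent.Lib.Twisted Cfsg.Agent.Lib.Twisted.E6
open Cfsg.Agent.Lib.Chevalley.Tbl.E6 (sys comm)

variable {K : Type u} [Field K]

set_option quotPrecheck false in
/-- The root elements. -/
local notation "Xr" => X (sys (F := _)).toAddRel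

theorem pair_eq {a b : ℕ} (hab : a < b) (ha : chevE6.IsPosRoot a) (hb : chevE6.IsPosRoot b) {s s' u u' : K}
    (h : Xr a s * Xr b s' = Xr a u * Xr b u') : s = u ∧ s' = u' := by
  have hne : b ≠ a := Nat.ne_of_gt hab
  have h1 := ordered_unique (hA := (sys (F := K)).toAddRel) tbl_chevE6 [a, b] (by simpa using hab)
    (by
      intro r hr
      simp only [List.mem_cons, List.not_mem_nil, or_false] at hr
      rcases hr with rfl | rfl
      · exact ha
      · exact hb) (fun r => if r = a then s else s') (fun r => if r = a then u else u')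
    (by simpa [W, hne] using h)
  constructor
  · simpa using h1 a (by simp)
  · simpa [hne] using h1 b (by simp)

section Main

variable [Fintype K] {q : ℕ} {φ : K →+* K} {T : Tw (sys (F := K)).toAddRel}
  (hφ : ∀ t, φ t = t ^ q) (hφ2 : ∀ t, φ (φ t) = t) (hρ : T.ρ = ρ0)
  (hτ : ∀ r t, T.τ r t = ((ε0 r : ℤ) : K) * φ t)
  (I : Inst sys tbl_chevE6 T Js cl (twistedE6 K q))

include hφ in
theorem w2_MM_42 {t : K} (ht : φ t = t) : w2 φ 42 37 t ∈ MM q φ := by
  refine ⟨w2_mem hφ (rs := (42, 37)) (by decide +kernel) t, ?_⟩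
  show mapG chevE6 φ _ = MonoidHom.id _ _
  simp only [w2, map_mul, map_one, mapG_X φ (sys (F := K)).toAddRel (sys (F := K)).toAddRel, ht]
  rfl

include hφ I in
/-- The element of the orbit of the short root `(40, 43)`. -/
theorem P0_Lam : Xr 43 (-1 : K) * Xr 40 (1 : K) ∈ Lam q φ := by
  have h39 : Xr 39 (1 : K) ∈ Lam q φ :=
    X_Lam I (w := [[2, 4], [0, 5], [1], [3], [2, 4], [3], [1]]) (s := 1) (by decide) (Or.inl rfl)
      (by decide +kernel) (by decide +kernel) (map_one φ)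
  have h44 : Xr 44 (-1 : K) ∈ Lam q φ :=
    X_Lam I (w := [[0, 5], [1], [3], [2, 4], [3], [1]]) (s := -1) (by decide) (Or.inr rfl)
      (by decide +kernel) (by decide +kernel) (by simp)
  have hm := Lam_conj (w2_MM_42 hφ (t := 1) (map_one φ)) h39
  have e : w2 φ 42 37 (1 : K) * Xr 39 1 * (w2 φ 42 37 (1 : K))⁻¹ =
      Xr 39 1 * (Xr 43 (-1) * Xr 40 1) * Xr 44 (-1) := by
    have e1 : w2 φ 42 37 (1 : K) * Xr 39 1 * (w2 φ 42 37 (1 : K))⁻¹ =
        MulAut.conj (Xr 42 (1 : K)) (MulAut.conj (Xr 37 (1 : K)) (Xr 39 1)) := by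
      simp only [w2, map_one, mul_one, MulAut.conj_apply]
      group
    rw [e1, cjp (c := 40) (by decide +kernel) (by decide +kernel) (by decide) (by decide +kernel), map_mul,
      cjn (c := 43) (by decide +kernel) (by decide +kernel) (by decide) (by decide +kernel),
      cjn (c := 44) (by decide +kernel) (by decide +kernel) (by decide) (by decide +kernel)]
    simp only [mul_one, mul_assoc]
  rw [e] at hm
  have e2 : Xr 43 (-1 : K) * Xr 40 1 = (Xr 39 (1 : K))⁻¹ * (Xr 39 1 * (Xr 43 (-1) * Xr 40 1) * Xr 44 (-1)) * (Xr 44 (-1 : K))⁻¹ := by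
    group
  rw [e2]
  exact Subgroup.mul_mem _ (Subgroup.mul_mem _ (Subgroup.inv_mem _ h39) hm) (Subgroup.inv_mem _ h44)

include hφ I in
theorem P_Lam {w : List (List ℕ)} (hw : ∀ J ∈ w, J ∈ Js) {a b : ℕ} {s s' : ℤ}
    (h1 : w.flatten.foldr chevE6.reflectRoot 43 = a) (h2 : sgn w.flatten 43 = s)
    (h3 : w.flatten.foldr chevE6.reflectRoot 40 = b) (h4 : sgn w.flatten 40 = s') :
    Xr a ((s : K) * -1) * Xr b ((s' : K) * 1) ∈ Lam q φ := by
  have h := Lam_conj (word_MM I hw) (P0_Lam hφ I)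
  have e : prodA sys w.flatten * (Xr 43 (-1 : K) * Xr 40 1) * (prodA sys w.flatten)⁻¹ =
      (prodA sys w.flatten * Xr 43 (-1 : K) * (prodA sys w.flatten)⁻¹) * (prodA sys w.flatten * Xr 40 (1 : K) * (prodA sys w.flatten)⁻¹) := by
    group
  rw [e, cw (I.flat_lt hw) (by decide +kernel) h1 h2, cw (I.flat_lt hw) (by decide +kernel) h3 h4] at h
  exact h

include hφ I in
/-- An element centralising the group generated by the long root elements lies in the Borel subgroup. -/
theorem B_of_Lam {c : GL chevE6.Idx K} (hc : c ∈ twistedE6 K q) (hL : ∀ g ∈ Lam q φ, Commute c g) :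
    c ∈ chevE6.borelSubgroup K := by
  have h46 : Xr 46 (1 : K) ∈ Lam q φ :=
    X_Lam I (w := [[3], [2, 4], [0, 5], [3], [2, 4], [3], [1]]) (s := -1) (by decide) (Or.inr rfl)
      (by decide +kernel) (by decide +kernel) (map_one φ)
  have h39 : Xr 39 (1 : K) ∈ Lam q φ :=
    X_Lam I (w := [[2, 4], [0, 5], [1], [3], [2, 4], [3], [1]]) (s := 1) (by decide) (Or.inl rfl)
      (by decide +kernel) (by decide +kernel) (map_one φ)
  have h37 := P_Lam (a := 37) (b := 42) (s := 1) (s' := -1) hφ I (w := [[3], [2, 4]]) (by decide)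
    (by decide +kernel) (by decide +kernel) (by decide +kernel) (by decide +kernel)
  have h36 := P_Lam (a := 36) (b := 56) (s := 1) (s' := -1) hφ I (w := [[2, 4], [0, 5], [3], [2, 4]]) (by decide)
    (by decide +kernel) (by decide +kernel) (by decide +kernel) (by decide +kernel)
  refine key_B I hc (a₁ := 1) (a₂ := 1) (a₃ := _) (a₃' := _) (a₄ := _) (a₄' := _) one_ne_zero one_ne_zero ?_ ?_
    (hL _ h46) (hL _ h39) (hL _ h36) (hL _ h37)
  · simp
  · simp

include hφ I in
/-- An element centralising the long root elements of the rational points is trivial. -/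
theorem cent_one {c : GL chevE6.Idx K} (hc : c ∈ twistedE6 K q)
    (hcomm : ∀ m ∈ MM q φ, ∀ t : K, φ t = t → Commute c (m * Xr 71 t * m⁻¹)) : c = 1 := by
  have hL : ∀ g ∈ Lam q φ, Commute c g := by
    intro g hg
    rw [Lam] at hg
    induction hg using Subgroup.closure_induction with
    | mem x hx =>
      obtain ⟨m, hm, t, ht, rfl⟩ := hx
      exact hcomm m hm t ht
    | one => exact Commute.one_right _
    | mul a b _ _ ha hb => exact ha.mul_right hb
    | inv a _ ha => exact ha.inv_right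
  have hB := B_of_Lam hφ I hc hL
  have hNs : (Ns : GL chevE6.Idx K) ∈ MM q φ := by
    have := word_MM (K := K) (q := q) (φ := φ) I (w := wstar) (by decide)
    rwa [wstar_flat] at this
  have hc' : Ns⁻¹ * c * Ns ∈ twistedE6 K q :=
    Subgroup.mul_mem _ (Subgroup.mul_mem _ (Subgroup.inv_mem _ hNs.1) hc) hNs.1
  have hL' : ∀ g ∈ Lam q φ, Commute (Ns⁻¹ * c * Ns) g := by
    intro g hg
    have h1 := (hL _ (Lam_conj hNs hg)).eq
    show Ns⁻¹ * c * Ns * g = g * (Ns⁻¹ * c * Ns)
    calc Ns⁻¹ * c * Ns * g = Ns⁻¹ * (c * (Ns * g * Ns⁻¹)) * Ns := by group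
      _ = Ns⁻¹ * ((Ns * g * Ns⁻¹) * c) * Ns := by rw [h1]
      _ = _ := by group
  have hB' := B_of_Lam hφ I hc' hL'
  have hVH : c ∈ chevE6.negUnipotent K ⊔ chevE6.diagonalSubgroup K := by
    obtain ⟨u, hu, k, hk, e⟩ := (mem_B_iff sys tbl_chevE6).mp hB'
    have e2 : c = (Ns * u * Ns⁻¹) * (Ns * k * Ns⁻¹) := by
      have : c = Ns * (Ns⁻¹ * c * Ns) * Ns⁻¹ := by group
      rw [this, e]
      group
    rw [e2]
    exact Subgroup.mul_mem_sup (Ns_U hu) (H_norm_N sys tbl_chevE6 Ns_N hk)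
  have hH : c ∈ chevE6.diagonalSubgroup K := by
    rw [← B_inf_VH sys tbl_chevE6]
    exact ⟨hB, hVH⟩
  obtain ⟨κ, k0, -, k2⟩ := exists_of_mem_H sys tbl_chevE6 hH
  have hfix : ∀ {g}, g ∈ Lam q φ → c * g * c⁻¹ = g := fun {g} hg => by
    rw [(hL g hg).eq, mul_inv_cancel_right]
  have h46 : Xr 46 (1 : K) ∈ Lam q φ :=
    X_Lam I (w := [[3], [2, 4], [0, 5], [3], [2, 4], [3], [1]]) (s := -1) (by decide) (Or.inr rfl)
      (by decide +kernel) (by decide +kernel) (map_one φ)
  have h39 : Xr 39 (1 : K) ∈ Lam q φ :=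
    X_Lam I (w := [[2, 4], [0, 5], [1], [3], [2, 4], [3], [1]]) (s := 1) (by decide) (Or.inl rfl)
      (by decide +kernel) (by decide +kernel) (map_one φ)
  have h37 := P_Lam (a := 37) (b := 42) (s := 1) (s' := -1) hφ I (w := [[3], [2, 4]]) (by decide)
    (by decide +kernel) (by decide +kernel) (by decide +kernel) (by decide +kernel)
  have h36 := P_Lam (a := 36) (b := 56) (s := 1) (s' := -1) hφ I (w := [[2, 4], [0, 5], [3], [2, 4]]) (by decide)
    (by decide +kernel) (by decide +kernel) (by decide +kernel) (by decide +kernel)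
  have k46 : κ 46 = 1 := by
    have e1 := k2 46 (by decide +kernel) 1
    rw [hfix h46] at e1
    have := Cfsg.Agent.Lib.ChevBN.Fix.X_inj sys tbl_chevE6 (by decide +kernel) e1
    simpa using this.symm
  have k39 : κ 39 = 1 := by
    have e1 := k2 39 (by decide +kernel) 1
    rw [hfix h39] at e1
    have := Cfsg.Agent.Lib.ChevBN.Fix.X_inj sys tbl_chevE6 (by decide +kernel) e1
    simpa using this.symm
  have hpair : ∀ {a b : ℕ} {s s' : K}, a < b → chevE6.IsPosRoot a → chevE6.IsPosRoot b → s ≠ 0 → s' ≠ 0 →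
      Xr a s * Xr b s' ∈ Lam q φ → κ a = 1 ∧ κ b = 1 := by
    intro a b s s' hab ha hb hs hs' hg
    have e1 := hfix hg
    have e2 : c * (Xr a s * Xr b s') * c⁻¹ = (c * Xr a s * c⁻¹) * (c * Xr b s' * c⁻¹) := by group
    rw [e2, k2 a ha.1, k2 b hb.1] at e1
    obtain ⟨e3, e4⟩ := pair_eq hab ha hb e1
    exact ⟨mul_right_cancel₀ hs (by rw [e3, one_mul]), mul_right_cancel₀ hs' (by rw [e4, one_mul])⟩
  obtain ⟨k36, k56⟩ := hpair (by decide) (by decide +kernel) (by decide +kernel) (by simp) (by simp) h36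
  obtain ⟨k37, k42⟩ := hpair (by decide) (by decide +kernel) (by decide +kernel) (by simp) (by simp) h37
  apply H_eq_one hH
  obtain ⟨e0, e1, e2, e3, e4, e5⟩ := e_s
  intro i hi
  have hi' : i < 6 := hi
  have hr := tbl_chevE6.simple_lt hi
  rw [k2 _ hr]
  interval_cases i
  · rw [e0, k56, one_mul]
  · rw [e1, k46, one_mul]
  · rw [e2, k42, one_mul]
  · rw [e3, k39, one_mul]
  · rw [e4, k37, one_mul]
  · rw [e5, k36, one_mul]

end Main

end Cfsg.Agent.Lib.Tw2E6Max
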