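import Cfsg.Agent.Lib.Tw2E6Max.Big

/-!
# The long root class of the twisted group is covered by two families of orbits of the rational points
-/

set_option autoImplicit false
set_option maxRecDepth 1000000
set_option linter.unusedSectionVars false
set_option linter.unusedVariables false
set_option linter.unusedSimpArgs false

universe u

namespace Cfsg.Agent.Lib.Tw2E6Max

open Cfsg.Lie Cfsg.Agent.Lib.ChevBN.Elem Cfsg.Agent.Lib.ChevBN.Table Cfsg.Agent.Lib.ChevBN.Rel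
open Cfsg.Agent.Lib.ChevBN.FastData Cfsg.Agent.Lib.ChevBN.Fix Cfsg.Agent.Lib.ChevBN.Collect
open Cfsg.Agent.Lib.ChevBN.Opp Cfsg.Agent.Lib.ChevBN.Monomial Cfsg.Agent.Lib.ChevBN.Pair
open Cfsg.Agent.Lib.ChevBN.Torus
open Cfsg.Agent.Lib.ChevOrder.Level
open Cfsg.Agent.Lib.Twisted Cfsg.Agent.Lib.Twisted.E6
open Cfsg.Agent.Lib.Chevalley.Tbl.E6 (sys comm)

/-- The lower bound for a union of orbits. -/
theorem orbit_card {G₀ Γ : Type*} [Group G₀] [Finite G₀] [Group Γ] [Finite Γ] (ι : G₀ →* Γ) (Q : Subgroup G₀)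
    (Y : Set Γ) (h : ∀ m, ∀ y ∈ Y, ∀ y' ∈ Y, ι m * y * (ι m)⁻¹ = y' → m ∈ Q) :
    Q.index * Y.ncard ≤ {x | ∃ m, ∃ y ∈ Y, x = ι m * y * (ι m)⁻¹}.ncard := by
  classical
  set O : Set Γ := {x | ∃ m, ∃ y ∈ Y, x = ι m * y * (ι m)⁻¹} with hO
  let F : (G₀ ⧸ Q) × Y → O := fun p =>
    ⟨ι p.1.out * p.2.1 * (ι p.1.out)⁻¹, p.1.out, p.2.1, p.2.2, rfl⟩
  have hF : Function.Injective F := by
    rintro ⟨c, y, hy⟩ ⟨c', y', hy'⟩ e
    have e1 : ι c.out * y * (ι c.out)⁻¹ = ι c'.out * y' * (ι c'.out)⁻¹ := congrArg Subtype.val e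
    have e2 : ι (c'.out⁻¹ * c.out) * y * (ι (c'.out⁻¹ * c.out))⁻¹ = y' := by
      simp only [map_mul, map_inv]
      calc _ = (ι c'.out)⁻¹ * (ι c.out * y * (ι c.out)⁻¹) * ι c'.out := by group
        _ = _ := by
          rw [e1]
          group
    have h3 := h _ y hy y' hy' e2
    have e3 : c' = c := by
      have e4 : (QuotientGroup.mk c'.out : G₀ ⧸ Q) = QuotientGroup.mk c.out := QuotientGroup.eq.2 h3
      rwa [QuotientGroup.out_eq', QuotientGroup.out_eq'] at e4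
    subst e3
    have e4 : y = y' := mul_left_cancel (mul_right_cancel e1)
    subst e4
    rfl
  have h1 := Nat.card_le_card_of_injective F hF
  rw [Nat.card_prod, Nat.card_coe_set_eq, Nat.card_coe_set_eq] at h1
  exact h1

variable {K : Type u} [Field K]

set_option quotPrecheck false in
/-- The root elements. -/
local notation "Xr" => X (sys (F := _)).toAddRel

/-- The upper bound for the class. -/
theorem class_card_le [Finite K] {q : ℕ} {φ : K →+* K} (Q : Subgroup ↥(twistedE6 K q))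
    (hQ : ∀ p ∈ Q, ∃ κ : K, φ κ = κ ∧ κ ≠ 0 ∧ ∀ t, p.1 * Xr 71 t * p.1⁻¹ = Xr 71 (κ * t)) :
    (EE q φ).ncard ≤ Q.index * Nat.card (Ru φ) := by
  classical
  have : Finite (↥(twistedE6 K q) ⧸ Q) := inferInstance
  let F : (↥(twistedE6 K q) ⧸ Q) × Ru φ → EE q φ := fun p =>
    ⟨p.1.out.1 * Xr 71 p.2.1 * p.1.out.1⁻¹, p.1.out.1, p.1.out.2, p.2.1, p.2.2.1, p.2.2.2, rfl⟩
  have hF : Function.Surjective F := by
    rintro ⟨x, g, hg, t, ht, ht0, rfl⟩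
    let c : ↥(twistedE6 K q) ⧸ Q := QuotientGroup.mk ⟨g, hg⟩
    have hout : c.out⁻¹ * ⟨g, hg⟩ ∈ Q := QuotientGroup.eq.1 (QuotientGroup.out_eq' c)
    obtain ⟨κ, h1, h2, h3⟩ := hQ _ hout
    refine ⟨(c, ⟨κ * t, by rw [map_mul, h1, ht], mul_ne_zero h2 ht0⟩), Subtype.ext ?_⟩
    show c.out.1 * Xr 71 (κ * t) * c.out.1⁻¹ = g * Xr 71 t * g⁻¹
    rw [← h3 t]
    simp only [Subgroup.coe_mul, Subgroup.coe_inv]
    group
  have h1 := Nat.card_le_card_of_surjective F hF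
  rw [Nat.card_prod, Nat.card_coe_set_eq] at h1
  exact h1

/-- The difference of an element of the cells and its image. -/
theorem Phi_D {φ : K →+* K} (hφ2 : ∀ t, φ (φ t) = t) (y : Cell φ) :
    ∃ δ : K, δ ≠ 0 ∧ (Phi φ y)⁻¹ * mapG chevE6 φ (Phi φ y) = Xr 66 δ * (Xr 68 (-δ) * 1) := by
  obtain ⟨a, b, c, d, f, g, h, ha, hb, hc, hf, hg, hh, hd, e⟩ := Phi_form hφ2 y
  refine ⟨φ d - d, sub_ne_zero.2 hd, ?_⟩
  rw [e, map_ay, ha, hb, hc, hf, hg, hh, hφ2, ay_diff]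
  have e2 : d - φ d = -(φ d - d) := by ring
  rw [e2]

theorem D_ne_one {δ : K} (hδ : δ ≠ 0) : Xr 66 δ * (Xr 68 (-δ) * 1) ≠ 1 := by
  intro h
  have e1 : Xr 66 δ * (Xr 68 (-δ) * 1) = ay 0 0 0 δ (-δ) 0 0 0 := by simp [ay, X_zero]
  have e2 : (1 : GL chevE6.Idx K) = ay 0 0 0 0 0 0 0 0 := by simp [ay, X_zero]
  rw [e1, e2] at h
  obtain ⟨-, -, -, h4, -⟩ := ay_inj h
  exact hδ h4

section Main

variable [Fintype K] {q : ℕ} {φ : K →+* K} {T : Tw (sys (F := K)).toAddRel}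
  (hφ : ∀ t, φ t = t ^ q) (hφ2 : ∀ t, φ (φ t) = t) (hρ : T.ρ = ρ0)
  (hτ : ∀ r t, T.τ r t = ((ε0 r : ℤ) : K) * φ t)
  (I : Inst sys tbl_chevE6 T Js cl (twistedE6 K q))

include hφ in
theorem card_Ra (hq : IsPrimePow q) (hK : Fintype.card K = q ^ 2) : Nat.card (Ra φ) = q := by
  rw [← card_fixed_pow hq.two_le hK]
  refine Nat.card_congr (Equiv.subtypeEquivRight fun x => ?_)
  rw [← hφ]

include hφ in
theorem card_Nr (hq : IsPrimePow q) (hK : Fintype.card K = q ^ 2) : Nat.card (Nr φ) = q ^ 2 - q := by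
  classical
  have h1 := card_Ra hφ hq hK
  rw [Nat.card_eq_fintype_card] at h1
  rw [Nat.card_eq_fintype_card, Fintype.card_subtype_compl, h1, hK]

include hφ hφ2 hρ hτ I in
/-- The parabolic subgroup of the long root. -/
theorem big_data (hq : IsPrimePow q) (hK : Fintype.card K = q ^ 2) :
    ∃ Q : Subgroup ↥(twistedE6 K q), Q.index = sG q ∧
      ∀ p ∈ Q, ∃ κ : K, φ κ = κ ∧ κ ≠ 0 ∧ ∀ t, p.1 * Xr 71 t * p.1⁻¹ = Xr 71 (κ * t) := by
  classical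
  obtain ⟨P, hB, hN, hS⟩ := I.exists_pair
  obtain ⟨e0, e1, e2, e3, e4, e5⟩ := e_s
  have hcard : ∀ i, Nat.card ↥(gen (sys (F := K)).toAddRel (psiL chevE6 (Jn i)) ⊓ T.Fx) = q ^ wxE i := by
    intro i
    have hi : i = 0 ∨ i = 1 ∨ i = 2 ∨ i = 3 := by
      revert i
      decide
    rcases hi with rfl | rfl | rfl | rfl
    · show Nat.card ↥(gen (sys (F := K)).toAddRel (psiL chevE6 [1]) ⊓ T.Fx) = q ^ 1
      rw [card1 hρ hτ hφ hq.two_le hK (by decide) e1 (by decide +kernel) (by decide +kernel) (by decide +kernel),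
        pow_one]
    · show Nat.card ↥(gen (sys (F := K)).toAddRel (psiL chevE6 [3]) ⊓ T.Fx) = q ^ 1
      rw [card1 hρ hτ hφ hq.two_le hK (by decide) e3 (by decide +kernel) (by decide +kernel) (by decide +kernel),
        pow_one]
    · show Nat.card ↥(gen (sys (F := K)).toAddRel (psiL chevE6 [2, 4]) ⊓ T.Fx) = q ^ 2
      rw [card2 hρ hτ hφ2 (by decide) (by decide) e2 e4 (by decide +kernel) (by decide +kernel)
        (by decide +kernel) (by decide +kernel) (by decide +kernel) (by decide +kernel) (by decide +kernel)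
        (by decide +kernel) (by decide +kernel), hK]
    · show Nat.card ↥(gen (sys (F := K)).toAddRel (psiL chevE6 [0, 5]) ⊓ T.Fx) = q ^ 2
      rw [card2 hρ hτ hφ2 (by decide) (by decide) e0 e5 (by decide +kernel) (by decide +kernel)
        (by decide +kernel) (by decide +kernel) (by decide +kernel) (by decide +kernel) (by decide +kernel)
        (by decide +kernel) (by decide +kernel), hK]
  have hidx := index_parL I Jn Jn_mem hB hN hS Jn_surj pE pE_mem hcard chG_chk all1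
  rw [tG_val] at hidx
  refine ⟨parL I Jn Jn_mem P (rG.map Prod.fst), hidx, ?_⟩
  let PP : Subgroup ↥(twistedE6 K q) :=
    { carrier := {g | ∃ κ : K, κ ≠ 0 ∧ ∀ t, g.1 * Xr 71 t * g.1⁻¹ = Xr 71 (κ * t)}
      mul_mem' := by
        rintro a b ⟨κ, hκ, h⟩ ⟨κ', hκ', h'⟩
        refine ⟨κ * κ', mul_ne_zero hκ hκ', fun t => ?_⟩
        simp only [Subgroup.coe_mul]
        calc a.1 * b.1 * Xr 71 t * (a.1 * b.1)⁻¹ = a.1 * (b.1 * Xr 71 t * b.1⁻¹) * a.1⁻¹ := by group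
          _ = _ := by rw [h', h, mul_assoc]
      one_mem' := ⟨1, one_ne_zero, fun t => by simp⟩
      inv_mem' := by
        rintro a ⟨κ, hκ, h⟩
        refine ⟨κ⁻¹, inv_ne_zero hκ, fun t => ?_⟩
        simp only [Subgroup.coe_inv, inv_inv]
        have h1 := h (κ⁻¹ * t)
        rw [mul_inv_cancel_left₀ hκ] at h1
        rw [← h1]
        group }
  have hle : parL I Jn Jn_mem P (rG.map Prod.fst) ≤ PP := by
    refine sup_le ?_ ((Subgroup.closure_le _).2 ?_)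
    · intro b hb
      rw [hB, Subgroup.mem_subgroupOf] at hb
      exact B_act_71 hb.1
    · rintro _ ⟨i, hi, rfl⟩
      have hfold : ∀ i ∈ rG.map Prod.fst, (Jn i).foldr chevE6.reflectRoot 71 = 71 := by decide +kernel
      obtain ⟨-, κ, hκ, h2⟩ := prodA_conj (sys (F := K)) tbl_chevE6 (l := Jn i) (r := 71)
        (I.orth.lt _ (Jn_mem i)) (by decide +kernel)
      rw [hfold i hi] at h2
      exact ⟨κ, hκ, h2⟩
  intro p hp
  obtain ⟨κ, hκ, h⟩ := hle hp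
  refine ⟨κ, ?_, hκ, h⟩
  have hX1 : Xr 71 (1 : K) ∈ twistedE6 K q :=
    X_fix_G hρ hτ I (by decide +kernel) (by decide +kernel) (by decide +kernel) (map_one φ)
  have hm : Xr 71 κ ∈ twistedE6 K q := by
    have h1 := h 1
    rw [mul_one] at h1
    rw [← h1]
    exact Subgroup.mul_mem _ (Subgroup.mul_mem _ p.2 hX1) (Subgroup.inv_mem _ p.2)
  have h3 := (I.fix hm).2
  rw [s_X hρ hτ (b := 71) (by decide +kernel) (by decide +kernel) (by decide +kernel)] at h3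
  exact Cfsg.Agent.Lib.ChevBN.Fix.X_inj sys tbl_chevE6 (by decide +kernel) h3

include hφ hφ2 hρ hτ I in
/-- The long root class is covered by the two families of orbits. -/
theorem cover (hq : IsPrimePow q) (hK : Fintype.card K = q ^ 2) :
    ∀ x ∈ EE q φ, mapG chevE6 φ x = x ∨ ∃ m ∈ MM q φ, ∃ y : Cell φ, x = m * Phi φ y * m⁻¹ := by
  classical
  obtain ⟨G₀, _, _, ι, Q₁, Q₄, hι, hQ₁, hQ₄, hs₁, hs₄⟩ := small_data hφ hφ2 hq hK
  obtain ⟨Q, hQ, hscale⟩ := big_data hφ hφ2 hρ hτ I hq hK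
  have hfinΓ : Finite (GL chevE6.Idx K) := inferInstance
  let Y₁ : Set (GL chevE6.Idx K) := Set.range (fun t : Ru φ => Xr 71 t.1)
  let Y₂ : Set (GL chevE6.Idx K) := Set.range (Phi φ)
  have hc₁ : Y₁.ncard = Nat.card (Ru φ) := by
    rw [← Nat.card_coe_set_eq]
    refine Nat.card_range_of_injective ?_
    intro a b e
    exact Subtype.ext (Cfsg.Agent.Lib.ChevBN.Fix.X_inj sys tbl_chevE6 (by decide +kernel) e)
  have hc₂ : Y₂.ncard = Nat.card (Cell φ) := by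
    rw [← Nat.card_coe_set_eq]
    exact Nat.card_range_of_injective (Phi_inj φ)
  have hq1 : 1 ≤ q := hq.one_lt.le
  have hcell := card_cell (φ := φ) hq1 (card_Ra hφ hq hK) (card_Nr hφ hq hK)
  have h₁ := orbit_card ι Q₁ Y₁ (by
    rintro m _ ⟨t, rfl⟩ _ ⟨t', rfl⟩ e
    exact hs₁ m t.2.2 t'.2.2 e)
  have h₂ := orbit_card ι Q₄ Y₂ (by
    rintro m _ ⟨y, rfl⟩ _ ⟨y', rfl⟩ e
    obtain ⟨δ, hδ, e1⟩ := Phi_D hφ2 y
    obtain ⟨δ', hδ', e2⟩ := Phi_D hφ2 y'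
    have hfix := (hι m).2
    have e3 := congrArg (mapG chevE6 φ) e
    rw [map_mul, map_mul, map_inv, hfix] at e3
    refine hs₄ m (δ := δ) (z' := Xr 66 δ' * (Xr 68 (-δ') * 1)) hδ ?_ ?_
    · refine Subgroup.mul_mem _ (X_mem_gen _ (by decide) _) (Subgroup.mul_mem _ (X_mem_gen _ (by decide) _) (Subgroup.one_mem _))
    · rw [← e1, ← e2, ← e3, ← e]
      group)
  rw [hc₁, hQ₁] at h₁
  rw [hc₂, hQ₄, hcell] at h₂
  set O₁ : Set (GL chevE6.Idx K) := {x | ∃ m, ∃ y ∈ Y₁, x = ι m * y * (ι m)⁻¹} with hO₁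
  set O₂ : Set (GL chevE6.Idx K) := {x | ∃ m, ∃ y ∈ Y₂, x = ι m * y * (ι m)⁻¹} with hO₂
  have hfix₁ : ∀ x ∈ O₁, mapG chevE6 φ x = x := by
    rintro _ ⟨m, _, ⟨t, rfl⟩, rfl⟩
    rw [map_mul, map_mul, map_inv, (hι m).2, mapG_X φ (sys (F := K)).toAddRel (sys (F := K)).toAddRel, t.2.1]
  have hfix₂ : ∀ x ∈ O₂, mapG chevE6 φ x ≠ x := by
    rintro _ ⟨m, _, ⟨y, rfl⟩, rfl⟩ e
    obtain ⟨δ, hδ, e1⟩ := Phi_D hφ2 y
    rw [map_mul, map_mul, map_inv, (hι m).2] at e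
    have e2 := mul_left_cancel (mul_right_cancel e)
    rw [e2, inv_mul_cancel] at e1
    exact D_ne_one hδ e1.symm
  have hdisj : Disjoint O₁ O₂ := by
    rw [Set.disjoint_left]
    intro x h1 h2
    exact hfix₂ x h2 (hfix₁ x h1)
  have hconjE : ∀ m, ∀ x ∈ EE q φ, ι m * x * (ι m)⁻¹ ∈ EE q φ := by
    rintro m _ ⟨g, hg, t, ht, ht0, rfl⟩
    refine ⟨ι m * g, Subgroup.mul_mem _ (hι m).1 hg, t, ht, ht0, ?_⟩
    group
  have hsub₁ : O₁ ⊆ EE q φ := by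
    rintro _ ⟨m, _, ⟨t, rfl⟩, rfl⟩
    exact ⟨ι m, (hι m).1, t.1, t.2.1, t.2.2, rfl⟩
  have hsub₂ : O₂ ⊆ EE q φ := by
    rintro _ ⟨m, _, ⟨y, rfl⟩, rfl⟩
    exact hconjE m _ (Phi_EE hφ2 hρ hτ I y)
  have hfin : (EE q φ).Finite := Set.toFinite _
  have hle := class_card_le (φ := φ) Q hscale
  rw [hQ, sG_eq q hq1] at hle
  have hun : (O₁ ∪ O₂).ncard = O₁.ncard + O₂.ncard := Set.ncard_union_eq hdisj (Set.toFinite _) (Set.toFinite _)
  have heq : O₁ ∪ O₂ = EE q φ := by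
    refine Set.eq_of_subset_of_ncard_le (Set.union_subset hsub₁ hsub₂) ?_ hfin
    rw [hun]
    calc (EE q φ).ncard ≤ (sM q + sM q * ((q ^ 4 + q ^ 3 + q ^ 2) * (q ^ 2 - q))) * Nat.card (Ru φ) := hle
      _ = sM q * Nat.card (Ru φ) + sM q * (Nat.card (Ru φ) * ((q ^ 4 + q ^ 3 + q ^ 2) * (q ^ 2 - q))) := by ring
      _ ≤ _ := Nat.add_le_add h₁ h₂
  intro x hx
  rw [← heq] at hx
  rcases hx with hx | hx
  · exact Or.inl (hfix₁ x hx)
  · obtain ⟨m, _, ⟨y, rfl⟩, rfl⟩ := hx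
    exact Or.inr ⟨ι m, ⟨(hι m).1, (hι m).2⟩, y, rfl⟩

end Main

end Cfsg.Agent.Lib.Tw2E6Max
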