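import Cfsg.Agent.Lib.Tw2E6Max.BNC
import Cfsg.Agent.Lib.Twisted.E6Order

/-!
# The certificates for the orbits of the maximal parabolic subgroups in `²E₆(q)` and `F₄(q)`
-/

set_option autoImplicit false
set_option maxRecDepth 1000000
set_option linter.unusedSectionVars false

namespace Cfsg.Agent.Lib.Tw2E6Max

open Cfsg.Lie Cfsg.Agent.Lib.Twisted Cfsg.Agent.Lib.Twisted.E6
open Cfsg.Agent.Lib.ChevOrder.Level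
open Cfsg.Agent.Lib.ChevBN.Table
open Cfsg.Agent.Lib.ChevBN.FastData (tbl_chevE6)

/-- The exponents over the small field. -/
def wxM : Fin 4 → ℕ := ![1, 1, 1, 1]

/-- The weight of the long root. -/
def a1 : List ℤ := [0, 1, 0, 0, 0, 0]

/-- The weight of the abelian subgroup. -/
def a4 : List ℤ := [1, 0, 0, 0, 0, 1]

/-- The orbit in the big group. -/
def tG : List WEntry := [([0, 1, 0, 0, 0, 0], 0, 0), ([0, -1, 0, 1, 0, 0], 1, 1), ([0, 0, 1, -1, 1, 0], 2, 2), ([1, 0, -1, 1, -1, 1], 3, 4), ([1, 1, 0, -1, 0, 1], 4, 5), ([-1, 0, 0, 1, 0, -1], 4, 6), ([1, -1, 0, 0, 0, 1], 5, 6), ([-1, 1, 1, -1, 1, -1], 5, 7), ([-1, -1, 1, 0, 1, -1], 6, 8), ([0, 1, -1, 1, -1, 0], 6, 9), ([0, -1, -1, 2, -1, 0], 7, 10), ([0, 2, 0, -1, 0, 0], 7, 10), ([0, 1, 1, -2, 1, 0], 8, 11), ([0, -2, 0, 1, 0, 0], 8, 11), ([0, -1, 1, -1, 1, 0], 9,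 12), ([1, 1, -1, 0, -1, 1], 9, 13), ([1, -1, -1, 1, -1, 1], 10, 14), ([-1, 1, 0, 0, 0, -1], 10, 15), ([1, 0, 0, -1, 0, 1], 11, 15), ([-1, -1, 0, 1, 0, -1], 11, 16), ([-1, 0, 1, -1, 1, -1], 12, 17), ([0, 0, -1, 1, -1, 0], 13, 19), ([0, 1, 0, -1, 0, 0], 14, 20), ([0, -1, 0, 0, 0, 0], 15, 21)]

/-- The orbit of the long root in the small group. -/
def tM1 : List WEntry := [([0, 1, 0, 0, 0, 0], 0, 0), ([0, -1, 0, 1, 0, 0], 1, 1), ([0, 0, 1, -1, 1, 0], 2, 2), ([1, 0, -1, 1, -1, 1], 3, 3), ([-1, 0, 0, 1, 0, -1], 4, 4), ([1, 1, 0, -1, 0, 1], 4, 4), ([-1, 1, 1, -1, 1, -1], 5, 5), ([1, -1, 0, 0, 0, 1], 5, 5), ([-1, -1, 1, 0, 1, -1], 6, 6), ([0, 1, -1, 1, -1, 0], 6, 6), ([0, -1, -1, 2, -1, 0], 7, 7), ([0, 2, 0, -1, 0, 0], 7, 7), ([0, 1, 1, -2, 1, 0], 8, 8), ([0, -2, 0, 1, 0, 0], 8, 8), ([0, -1, 1, -1, 1, 0], 9, 9), ([1, 1,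 -1, 0, -1, 1], 9, 9), ([1, -1, -1, 1, -1, 1], 10, 10), ([-1, 1, 0, 0, 0, -1], 10, 10), ([-1, -1, 0, 1, 0, -1], 11, 11), ([1, 0, 0, -1, 0, 1], 11, 11), ([-1, 0, 1, -1, 1, -1], 12, 12), ([0, 0, -1, 1, -1, 0], 13, 13), ([0, 1, 0, -1, 0, 0], 14, 14), ([0, -1, 0, 0, 0, 0], 15, 15)]

/-- The orbit of the abelian subgroup in the small group. -/
def tM4 : List WEntry := [([1, 0, 0, 0, 0, 1], 0, 0), ([-1, 0, 1, 0, 1, -1], 1, 1), ([0, 0, -1, 2, -1, 0], 2, 2), ([0, 2, 1, -2, 1, 0], 3, 3), ([1, 2, -1, 0, -1, 1], 4, 4), ([0, -2, 1, 0, 1, 0], 4, 4), ([-1, 2, 0, 0, 0, -1], 5, 5), ([1, -2, -1, 2, -1, 1], 5, 5), ([-1, -2, 0, 2, 0, -1], 6, 6), ([1, 0, 1, -2, 1, 1], 6, 6), ([-1, 0, 2, -2, 2, -1], 7, 7), ([2, 0, -1, 0, -1, 2], 7, 7), ([1, 0, -2, 2, -2, 1], 8, 8), ([-2, 0, 1, 0, 1, -2], 8, 8), ([-1, 0, -1, 2, -1, -1], 9, 9), ([1, 2,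 0, -2, 0, 1], 9, 9), ([-1, 2, 1, -2, 1, -1], 10, 10), ([1, -2, 0, 0, 0, 1], 10, 10), ([0, 2, -1, 0, -1, 0], 11, 11), ([-1, -2, 1, 0, 1, -1], 11, 11), ([0, -2, -1, 2, -1, 0], 12, 12), ([0, 0, 1, -2, 1, 0], 13, 13), ([1, 0, -1, 0, -1, 1], 14, 14), ([-1, 0, 0, 0, 0, -1], 15, 15)]

/-- The remaining levels in the big group. -/
def rG : List (Fin 4 × List ℤ × List WEntry) := [
  (3, [1, 0, 0, 0, 0, 1], [([1, 0, 0, 0, 0, 1], 0, 0), ([-1, 0, 1, 0, 1, -1], 1, 2), ([0, 0, -1, 2, -1, 0], 2, 4), ([0, 2, 1, -2, 1, 0], 3, 5), ([1, 2, -1, 0, -1, 1], 4, 7), ([-1, 2, 0, 0, 0, -1], 5, 9)]),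
  (2, [0, 0, 1, 0, 1, 0], [([0, 0, 1, 0, 1, 0], 0, 0), ([1, 0, -1, 2, -1, 1], 1, 2), ([1, 2, 1, -2, 1, 1], 2, 3), ([2, 2, -1, 0, -1, 2], 3, 5)]),
  (1, [0, 0, 0, 1, 0, 0], [([0, 0, 0, 1, 0, 0], 0, 0), ([0, 1, 1, -1, 1, 0], 1, 1)])]

/-- The remaining levels in the small group. -/
def rM1 : List (Fin 4 × List ℤ × List WEntry) := [
  (3, [1, 0, 0, 0, 0, 1], [([1, 0, 0, 0, 0, 1], 0, 0), ([-1, 0, 1, 0, 1, -1], 1, 1), ([0, 0, -1, 2, -1, 0], 2, 2), ([0, 2, 1, -2, 1, 0], 3, 3), ([1, 2, -1, 0, -1, 1], 4, 4), ([-1, 2, 0, 0, 0, -1], 5, 5)]),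
  (2, [0, 0, 1, 0, 1, 0], [([0, 0, 1, 0, 1, 0], 0, 0), ([1, 0, -1, 2, -1, 1], 1, 1), ([1, 2, 1, -2, 1, 1], 2, 2), ([2, 2, -1, 0, -1, 2], 3, 3)]),
  (1, [0, 0, 0, 1, 0, 0], [([0, 0, 0, 1, 0, 0], 0, 0), ([0, 1, 1, -1, 1, 0], 1, 1)])]

/-- The remaining levels in the small group. -/
def rM4 : List (Fin 4 × List ℤ × List WEntry) := [
  (2, [0, 0, 1, 0, 1, 0], [([0, 0, 1, 0, 1, 0], 0, 0), ([1, 0, -1, 2, -1, 1], 1, 1), ([1, 2, 1, -2, 1, 1], 2, 2), ([2, 2, -1, 0, -1, 2], 3, 3), ([1, -2, 1, 0, 1, 1], 3, 3), ([2, -2, -1, 2, -1, 2], 4, 4), ([2, 0, 1, -2, 1, 2], 5, 5), ([3, 0, -1, 0, -1, 3], 6, 6)]),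
  (1, [0, 0, 0, 1, 0, 0], [([0, 0, 0, 1, 0, 0], 0, 0), ([0, 1, 1, -1, 1, 0], 1, 1), ([0, -1, 1, 0, 1, 0], 2, 2)]),
  (0, [0, 1, 0, 0, 0, 0], [([0, 1, 0, 0, 0, 0], 0, 0), ([0, -1, 0, 1, 0, 0], 1, 1)])]

theorem chG_chk : checkWC chevE6 Jn wxE pE ((0, a1, tG) :: rG) = true := by decide +kernel
theorem chM1_chk : checkWC chevE6 Jn wxM pE ((0, a1, tM1) :: rM1) = true := by decide +kernel
theorem chM4_chk : checkWC chevE6 Jn wxM pE ((3, a4, tM4) :: rM4) = true := by decide +kernel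

theorem tM1_top : checkW chevE6 Jn wxM [3, 2, 1] 0 (pE 0) a1 tM1 = true := by decide +kernel
theorem tM4_top : checkW chevE6 Jn wxM [2, 1, 0] 3 (pE 3) a4 tM4 = true := by decide +kernel

theorem tM1_step : tM1.all (stepW chevE6 Jn [0, 1, 2, 3] tM1) = true := by decide +kernel
theorem tM4_step : tM4.all (stepW chevE6 Jn [0, 1, 2, 3] tM4) = true := by decide +kernel

theorem rG_map : rG.map Prod.fst = [3, 2, 1] := by decide +kernel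
theorem rM1_map : rM1.map Prod.fst = [3, 2, 1] := by decide +kernel
theorem rM4_map : rM4.map Prod.fst = [2, 1, 0] := by decide +kernel

theorem all1 : ∀ i : Fin 4, i = 0 ∨ i ∈ rG.map Prod.fst := by decide +kernel
theorem all2 : ∀ i : Fin 4, i = 0 ∨ i ∈ rM1.map Prod.fst := by decide +kernel
theorem all3 : ∀ i : Fin 4, i = 3 ∨ i ∈ rM4.map Prod.fst := by decide +kernel

/-- The number of long root subgroups of the big group. -/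
def sG (q : ℕ) : ℕ := 1 * q ^ 0 + 1 * q ^ 1 + 1 * q ^ 2 + 1 * q ^ 4 + 1 * q ^ 5 + 2 * q ^ 6 + 1 * q ^ 7 + 1 * q ^ 8 + 1 * q ^ 9 + 2 * q ^ 10 + 2 * q ^ 11 + 1 * q ^ 12 + 1 * q ^ 13 + 1 * q ^ 14 + 2 * q ^ 15 + 1 * q ^ 16 + 1 * q ^ 17 + 1 * q ^ 19 + 1 * q ^ 20 + 1 * q ^ 21

/-- The number of long root subgroups of the small group. -/
def sM (q : ℕ) : ℕ := 1 * q ^ 0 + 1 * q ^ 1 + 1 * q ^ 2 + 1 * q ^ 3 + 2 * q ^ 4 + 2 * q ^ 5 + 2 * q ^ 6 + 2 * q ^ 7 + 2 * q ^ 8 + 2 * q ^ 9 + 2 * q ^ 10 + 2 * q ^ 11 + 1 * q ^ 12 + 1 * q ^ 13 + 1 * q ^ 14 + 1 * q ^ 15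

theorem tG_val (q : ℕ) : (tG.map fun e => q ^ e.2.2).sum = sG q := by
  simp only [tG, sG, List.map_cons, List.map_nil, List.sum_cons, List.sum_nil]
  ring

theorem tM1_val (q : ℕ) : (tM1.map fun e => q ^ e.2.2).sum = sM q := by
  simp only [tM1, sM, List.map_cons, List.map_nil, List.sum_cons, List.sum_nil]
  ring

theorem tM4_val (q : ℕ) : (tM4.map fun e => q ^ e.2.2).sum = sM q := by
  simp only [tM4, sM, List.map_cons, List.map_nil, List.sum_cons, List.sum_nil]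
  ring

/-- The identity of the orbit lengths. -/
theorem sG_eq (q : ℕ) (hq : 1 ≤ q) : sG q = sM q + sM q * ((q ^ 4 + q ^ 3 + q ^ 2) * (q ^ 2 - q)) := by
  obtain ⟨k, rfl⟩ : ∃ k, q = k + 1 := ⟨q - 1, by omega⟩
  have e : (k + 1) ^ 2 - (k + 1) = k * (k + 1) := by
    rw [Nat.sub_eq_iff_eq_add (by nlinarith)]
    ring
  rw [e, sG, sM]
  ring

end Cfsg.Agent.Lib.Tw2E6Max
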