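import Cfsg.Agent.Lib.Tw2E6Max.Data

/-!
# Matrix entries of the elements of the abelian subgroup of `E₆`
-/

set_option autoImplicit false
set_option maxRecDepth 1000000
set_option linter.unusedSectionVars false
set_option linter.unusedVariables false
set_option linter.unusedSimpArgs false

namespace Cfsg.Agent.Lib.Tw2E6Max

open Cfsg.Lie Cfsg.Agent.Lib.ChevBN.Elem Cfsg.Agent.Lib.ChevBN.Entries Cfsg.Agent.Lib.ChevBN.Table
open Cfsg.Agent.Lib.ChevBN.Rel Cfsg.Agent.Lib.ChevBN.FastData Cfsg.Agent.Lib.ChevBN.Monomial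
open Cfsg.Agent.Lib.ChevBN.Opp Cfsg.Agent.Lib.ChevOrder.Chev
open Cfsg.Agent.Lib.Twisted Cfsg.Agent.Lib.Twisted.E6
open Cfsg.Agent.Lib.Chevalley.Tbl.E6 (sys comm)

variable {K : Type*} [Field K]

set_option quotPrecheck false in
/-- The root elements. -/
local notation "Xr" => X (sys (F := _)).toAddRel

/-- The roots of the abelian subgroup. -/
def SS : List ℕ := [60, 63, 65, 66, 68, 69, 70, 71]

/-- The top roots of the abelian subgroup. -/
def S1 : List ℕ := [69, 70, 71]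

/-- The root element of `s` fixes the vector of `z`. -/
def Free (s z : ℕ) : Prop :=
  s < chevE6.nroots ∧ z < chevE6.nroots ∧ (z ≠ s → z ≠ chevE6.neg s ∧ ∀ e ∈ (chevE6.chain.getD s #[]).toList, e.1 ≠ z)

instance (s z : ℕ) : Decidable (Free s z) := by
  unfold Free
  infer_instance

theorem x_col_std {s z : ℕ} (h : Free s z) (hz : z < chevE6.nroots) (t : K) (row : chevE6.Idx) :
    chevE6.x K s t row (Sum.inr ⟨z, hz⟩) = (1 : Matrix chevE6.Idx chevE6.Idx K) row (Sum.inr ⟨z, hz⟩) := by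
  obtain ⟨hs, -, h⟩ := h
  by_cases hzs : z = s
  · subst hzs
    rcases row with i | u
    · rw [x_inl_inr_self hs t i, Matrix.one_apply_ne (by simp)]
    · rw [x_inr_inr_self hs t u]
      by_cases hu : u.val = z
      · have : u = ⟨z, hz⟩ := Fin.ext hu
        rw [this]
        simp
      · rw [if_neg hu, Matrix.one_apply_ne]
        intro h2
        apply hu
        have := Sum.inr.inj h2
        rw [this]
  · obtain ⟨h1, h2⟩ := h hzs
    rcases row with i | u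
    · rw [x_inl_inr_gen hs t i ⟨z, hz⟩ hzs h1, Matrix.one_apply_ne (by simp)]
    · rw [x_inr_inr_gen hs t u ⟨z, hz⟩ hzs h1]
      have h3 : ((chevE6.chainCoeff s z u.val).map fun km => ((km.2 : ℤ) : K) * t ^ km.1).sum = 0 := by
        by_contra h4
        obtain ⟨e, he, he1, -⟩ := mem_chain_of_ne_zero h4
        exact h2 e he he1
      rw [h3, add_zero]
      by_cases hu : u = ⟨z, hz⟩
      · subst hu
        simp
      · rw [if_neg hu, Matrix.one_apply_ne]
        intro h5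
        exact hu (Sum.inr.inj h5)

/-- The invariants of the elements of an abelian subgroup. -/
def Inv (Z : List ℕ) (g : Matrix chevE6.Idx chevE6.Idx K) : Prop :=
  (∀ i j, g (Sum.inl i) (Sum.inl j) = (1 : Matrix chevE6.Idx chevE6.Idx K) (Sum.inl i) (Sum.inl j)) ∧
  (∀ z ∈ Z, ∀ hz : z < chevE6.nroots, ∀ row, g row (Sum.inr ⟨z, hz⟩) =
    (1 : Matrix chevE6.Idx chevE6.Idx K) row (Sum.inr ⟨z, hz⟩)) ∧
  (∀ (u : Fin chevE6.nroots) j, u.val ∉ Z → g (Sum.inr u) (Sum.inl j) = 0)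

theorem mul_col {Z : List ℕ} {g g' : Matrix chevE6.Idx chevE6.Idx K}
    (hg : ∀ z ∈ Z, ∀ hz : z < chevE6.nroots, ∀ row, g row (Sum.inr ⟨z, hz⟩) =
      (1 : Matrix chevE6.Idx chevE6.Idx K) row (Sum.inr ⟨z, hz⟩)) (hg' : Inv Z g') {row : chevE6.Idx}
    (hrow : ∀ z ∈ Z, ∀ hz : z < chevE6.nroots, row ≠ Sum.inr ⟨z, hz⟩) (j : Fin chevE6.rank) :
    (g * g') row (Sum.inl j) = g row (Sum.inl j) := by
  rw [Matrix.mul_apply, Fintype.sum_sum_type]
  have e2 : ∑ u : Fin chevE6.nroots, g row (Sum.inr u) * g' (Sum.inr u) (Sum.inl j) = 0 := by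
    apply Finset.sum_eq_zero
    intro u _
    by_cases hu : u.val ∈ Z
    · have := hg u.val hu u.isLt row
      rw [this, Matrix.one_apply_ne (hrow u.val hu u.isLt), zero_mul]
    · rw [hg'.2.2 u j hu, mul_zero]
  rw [e2, add_zero, Finset.sum_eq_single j]
  · rw [hg'.1 j j]
    simp
  · intro i _ hi
    rw [hg'.1 i j, Matrix.one_apply_ne (by simpa using hi), mul_zero]
  · intro h
    exact absurd (Finset.mem_univ _) h

theorem inv_one (Z : List ℕ) : Inv Z (1 : Matrix chevE6.Idx chevE6.Idx K) :=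
  ⟨fun _ _ => rfl, fun _ _ _ _ => rfl, fun u j _ => Matrix.one_apply_ne (by simp)⟩

theorem inv_mul {Z : List ℕ} {g g' : Matrix chevE6.Idx chevE6.Idx K} (h : Inv Z g) (h' : Inv Z g') : Inv Z (g * g') := by
  refine ⟨fun i j => ?_, fun z hz hl row => ?_, fun u j hu => ?_⟩
  · rw [mul_col h.2.1 h' (by simp), h.1]
  · rw [Matrix.mul_apply, Finset.sum_eq_single (Sum.inr ⟨z, hl⟩)]
    · rw [h'.2.1 z hz hl, h.2.1 z hz hl]
      simp
    · intro l _ hl2
      rw [h'.2.1 z hz hl, Matrix.one_apply_ne hl2, mul_zero]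
    · intro h2
      exact absurd (Finset.mem_univ _) h2
  · rw [mul_col h.2.1 h', h.2.2 u j hu]
    intro z hz hl h2
    apply hu
    have := Sum.inr.inj h2
    rw [this]
    exact hz

/-- The invariants for the elements of the subgroup generated by an abelian set of roots. -/
theorem inv_gen {Z : List ℕ} (hZ : ∀ s ∈ Z, ∀ z ∈ Z, Free s z) {g : GL chevE6.Idx K}
    (hg : g ∈ gen (sys (F := K)).toAddRel {x | x ∈ Z}) : Inv Z (g : Matrix chevE6.Idx chevE6.Idx K) := by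
  refine gen_induction (sys (F := K)).toAddRel (P := fun g => Inv Z (g : Matrix chevE6.Idx chevE6.Idx K))
    (by simpa using inv_one Z) ?_ (fun a b ha hb => by simpa using inv_mul ha hb) hg
  intro s hs t
  have hs' : s ∈ Z := hs
  have hsl : s < chevE6.nroots := (hZ s hs' s hs').1
  rw [coe_X]
  refine ⟨fun i j => ?_, fun z hz hl row => x_col_std (hZ s hs' z hz) hl t row, fun u j hu => ?_⟩
  · rw [x_inl_inl hsl t i j]
    by_cases hij : i = j
    · subst hij
      simp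
    · rw [if_neg hij, Matrix.one_apply_ne (by simpa using hij)]
  · rw [x_inr_inl hsl t u j, if_neg]
    intro h
    apply hu
    rw [h]
    exact hs'

theorem S_ab : ∀ s ∈ SS, ∀ z ∈ SS, Free s z := by decide +kernel

theorem col_zero {n z z' : GL chevE6.Idx K} (hn : n ∈ chevE6.monomialSubgroup K) (e : n * z * n⁻¹ = z') {r : Fin chevE6.nroots}
    (h : ∀ j, (z' : Matrix chevE6.Idx chevE6.Idx K) (Sum.inr (pn sys tbl_chevE6 hn r)) (Sum.inl j) = 0) (j : Fin chevE6.rank) :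
    (z : Matrix chevE6.Idx chevE6.Idx K) (Sum.inr r) (Sum.inl j) = 0 := by
  have hm : n ∈ monoSub chevE6 K := mem_mono_of_N sys tbl_chevE6 hn
  have hmi : n⁻¹ ∈ monoSub chevE6 K := Subgroup.inv_mem _ hm
  have e1 : z' * n = n * z := by
    rw [← e]
    group
  have e2 := congrArg (fun g : GL chevE6.Idx K => (g : Matrix chevE6.Idx chevE6.Idx K) (Sum.inr (pn sys tbl_chevE6 hn r)) (Sum.inl j)) e1
  simp only [Units.val_mul] at e2
  rw [Matrix.mul_apply, Matrix.mul_apply, Fintype.sum_sum_type, Fintype.sum_sum_type] at e2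
  have a1 : ∑ x : Fin chevE6.nroots, (z' : Matrix chevE6.Idx chevE6.Idx K) (Sum.inr (pn sys tbl_chevE6 hn r)) (Sum.inr x) *
      (n : Matrix chevE6.Idx chevE6.Idx K) (Sum.inr x) (Sum.inl j) = 0 := by
    apply Finset.sum_eq_zero
    intro x _
    rw [hm.1 j x, mul_zero]
  have a2 : ∑ x : Fin chevE6.rank, (z' : Matrix chevE6.Idx chevE6.Idx K) (Sum.inr (pn sys tbl_chevE6 hn r)) (Sum.inl x) *
      (n : Matrix chevE6.Idx chevE6.Idx K) (Sum.inl x) (Sum.inl j) = 0 := by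
    apply Finset.sum_eq_zero
    intro x _
    rw [h x, zero_mul]
  have a3 : ∑ x : Fin chevE6.rank, (n : Matrix chevE6.Idx chevE6.Idx K) (Sum.inr (pn sys tbl_chevE6 hn r)) (Sum.inl x) *
      (z : Matrix chevE6.Idx chevE6.Idx K) (Sum.inl x) (Sum.inl j) = 0 := by
    apply Finset.sum_eq_zero
    intro x _
    rw [hm.1 x _, zero_mul]
  rw [a1, a2, a3, add_zero, zero_add, Finset.sum_eq_single r] at e2
  · -- the entry of `n`
    have hne : (n : Matrix chevE6.Idx chevE6.Idx K) (Sum.inr (pn sys tbl_chevE6 hn r)) (Sum.inr r) ≠ 0 := by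
      intro h0
      have h1 : ((n⁻¹ * n : GL chevE6.Idx K) : Matrix chevE6.Idx chevE6.Idx K) (Sum.inr r) (Sum.inr r) = 1 := by
        simp
      rw [Units.val_mul, Matrix.mul_apply, Fintype.sum_sum_type] at h1
      have b1 : ∑ x : Fin chevE6.rank, ((n⁻¹ : GL chevE6.Idx K) : Matrix chevE6.Idx chevE6.Idx K) (Sum.inr r) (Sum.inl x) *
          (n : Matrix chevE6.Idx chevE6.Idx K) (Sum.inl x) (Sum.inr r) = 0 := by
        apply Finset.sum_eq_zero
        intro x _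
        rw [hm.2.1 x r, mul_zero]
      rw [b1, zero_add, Finset.sum_eq_zero] at h1
      · exact zero_ne_one h1
      · intro x _
        by_cases hx : x = pn sys tbl_chevE6 hn r
        · rw [hx, h0, mul_zero]
        · rw [permOf_spec ⟨n, hm⟩ r x hx, mul_zero]
    exact (mul_eq_zero.mp e2.symm).resolve_left hne
  · intro x _ hx
    have hx' : pn sys tbl_chevE6 hn r ≠ permOf ⟨n, hm⟩ x := by
      intro h5
      exact hx ((permOf ⟨n, hm⟩).injective h5).symm
    rw [permOf_spec ⟨n, hm⟩ x _ hx', zero_mul]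
  · intro h5
    exact absurd (Finset.mem_univ _) h5

theorem e66_lt : (66 : ℕ) < chevE6.nroots := by decide +kernel
theorem e68_lt : (68 : ℕ) < chevE6.nroots := by decide +kernel

theorem cart66 : ((chevE6.cartanSR.getD 0 #[]).getD 66 0 : ℤ) = 1 ∨ ((chevE6.cartanSR.getD 0 #[]).getD 66 0 : ℤ) = -1 := by
  decide +kernel
theorem cart68 : ((chevE6.cartanSR.getD 5 #[]).getD 68 0 : ℤ) = 1 ∨ ((chevE6.cartanSR.getD 5 #[]).getD 68 0 : ℤ) = -1 := by
  decide +kernel

/-- The first good entry. -/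
theorem entry66 {α : K} (hα : α ≠ 0) {P : GL chevE6.Idx K}
    (hP : P ∈ gen (sys (F := K)).toAddRel {x | x ∈ [68, 69, 70, 71]}) :
    ((Xr 66 α * P : GL chevE6.Idx K) : Matrix chevE6.Idx chevE6.Idx K) (Sum.inr ⟨66, e66_lt⟩) (Sum.inl ⟨0, by decide⟩) ≠ 0 := by
  have h1 : ∀ s ∈ [68, 69, 70, 71], ∀ z ∈ [68, 69, 70, 71], Free s z := by decide +kernel
  have h2 : Inv [68, 69, 70, 71] (P : Matrix chevE6.Idx chevE6.Idx K) := inv_gen h1 hP
  have h3 : ∀ z ∈ [68, 69, 70, 71], Free 66 z := by decide +kernel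
  rw [Units.val_mul, coe_X, mul_col (fun z hz hl row => x_col_std (h3 z hz) hl α row) h2]
  · rw [x_inr_inl e66_lt α _ _, if_pos rfl]
    refine mul_ne_zero (neg_ne_zero.2 ?_) hα
    show (((chevE6.cartanSR.getD 0 #[]).getD 66 0 : ℤ) : K) ≠ 0
    rcases cart66 with h | h <;> rw [h] <;> simp
  · intro z hz hl h5
    have := congrArg Fin.val (Sum.inr.inj h5)
    simp only at this
    subst this
    revert hz
    decide

/-- The second good entry. -/
theorem entry68 {α : K} (hα : α ≠ 0) {P : GL chevE6.Idx K}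
    (hP : P ∈ gen (sys (F := K)).toAddRel {x | x ∈ [66, 69, 70, 71]}) :
    ((Xr 68 α * P : GL chevE6.Idx K) : Matrix chevE6.Idx chevE6.Idx K) (Sum.inr ⟨68, e68_lt⟩) (Sum.inl ⟨5, by decide⟩) ≠ 0 := by
  have h1 : ∀ s ∈ [66, 69, 70, 71], ∀ z ∈ [66, 69, 70, 71], Free s z := by decide +kernel
  have h2 : Inv [66, 69, 70, 71] (P : Matrix chevE6.Idx chevE6.Idx K) := inv_gen h1 hP
  have h3 : ∀ z ∈ [66, 69, 70, 71], Free 68 z := by decide +kernel
  rw [Units.val_mul, coe_X, mul_col (fun z hz hl row => x_col_std (h3 z hz) hl α row) h2]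
  · rw [x_inr_inl e68_lt α _ _, if_pos rfl]
    refine mul_ne_zero (neg_ne_zero.2 ?_) hα
    show (((chevE6.cartanSR.getD 5 #[]).getD 68 0 : ℤ) : K) ≠ 0
    rcases cart68 with h | h <;> rw [h] <;> simp
  · intro z hz hl h5
    have := congrArg Fin.val (Sum.inr.inj h5)
    simp only at this
    subst this
    revert hz
    decide

theorem comm_ss {a b : ℕ} (ha : a ∈ SS) (hb : b ∈ SS) (x y : K) : Commute (Xr a x) (Xr b y) := by
  by_cases hab : b = a
  · subst hab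
    show Xr b x * Xr b y = Xr b y * Xr b x
    rw [X_mul, X_mul, add_comm]
  · have h1 : ∀ a ∈ SS, ∀ b ∈ SS, b ≠ a → a < chevE6.nroots ∧ b < chevE6.nroots ∧ b ≠ chevE6.neg a ∧ chevE6.commTerms a b = [] := by
      decide +kernel
    obtain ⟨h2, h3, h4, h5⟩ := h1 a ha b hb hab
    exact comm_p h2 h3 hab h4 h5 x y

/-- The key: the roots of the good elements stay in the abelian subgroup. -/
theorem S_of_good {n z' w₁ : GL chevE6.Idx K} (hn : n ∈ chevE6.monomialSubgroup K) {α β : K} (hα : α ≠ 0) (hβ : β ≠ 0)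
    (hw : w₁ ∈ gen (sys (F := K)).toAddRel {x | x ∈ S1}) (hz' : z' ∈ gen (sys (F := K)).toAddRel {x | x ∈ SS})
    (e : n * (Xr 66 α * (Xr 68 β * w₁)) * n⁻¹ = z') :
    (pn sys tbl_chevE6 hn ⟨66, e66_lt⟩).val ∈ SS ∧ (pn sys tbl_chevE6 hn ⟨68, e68_lt⟩).val ∈ SS := by
  have hI : Inv SS (z' : Matrix chevE6.Idx chevE6.Idx K) := inv_gen S_ab hz'
  constructor
  · by_contra hc
    have h1 := col_zero hn e (r := ⟨66, e66_lt⟩) (fun j => hI.2.2 _ j hc) ⟨0, by decide⟩
    refine entry66 hα ?_ h1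
    refine Subgroup.mul_mem _ (X_mem_gen _ (by simp) _) ?_
    exact gen_mono _ (fun x hx => by
      have hx' : x ∈ S1 := hx
      simp only [S1, List.mem_cons, List.not_mem_nil, or_false] at hx'
      show x ∈ [68, 69, 70, 71]
      simp [hx']) hw
  · by_contra hc
    have e2 : Xr 66 α * (Xr 68 β * w₁) = Xr 68 β * (Xr 66 α * w₁) := by
      rw [← mul_assoc, ← mul_assoc, (comm_ss (a := 66) (b := 68) (by decide) (by decide) α β).eq]
    rw [e2] at e
    have h1 := col_zero hn e (r := ⟨68, e68_lt⟩) (fun j => hI.2.2 _ j hc) ⟨5, by decide⟩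
    refine entry68 hβ ?_ h1
    refine Subgroup.mul_mem _ (X_mem_gen _ (by simp) _) ?_
    exact gen_mono _ (fun x hx => by
      have hx' : x ∈ S1 := hx
      simp only [S1, List.mem_cons, List.not_mem_nil, or_false] at hx'
      show x ∈ [66, 69, 70, 71]
      simp [hx']) hw

/-! ### The action of the Borel subgroup -/

theorem comm_S1 : ∀ r ∈ chevE6.posRoots, ∀ s ∈ [66, 68, 69, 70, 71], r ≠ s → ∀ c ∈ chevE6.commTerms r s, c.1 ∈ S1 := by
  decide +kernel

theorem S1_pos : ∀ s ∈ S1, chevE6.IsPosRoot s := by decide +kernel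
theorem SS_pos : ∀ s ∈ SS, chevE6.IsPosRoot s := by decide +kernel

theorem comm_SS : ∀ r ∈ chevE6.posRoots, ∀ s ∈ SS, r ≠ s → ∀ c ∈ chevE6.commTerms r s, c.1 ∈ SS := by
  decide +kernel

/-- `U` normalises the top part. -/
theorem U_norm_S1 {u w : GL chevE6.Idx K} (hu : u ∈ chevE6.posUnipotent K) (hw : w ∈ gen (sys (F := K)).toAddRel {x | x ∈ S1}) :
    u * w * u⁻¹ ∈ gen (sys (F := K)).toAddRel {x | x ∈ S1} := by
  rw [posUnipotent_eq (sys (F := K)).toAddRel] at hu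
  revert w
  refine gen_induction (sys (F := K)).toAddRel (P := fun u => ∀ {w : GL chevE6.Idx K},
    w ∈ gen (sys (F := K)).toAddRel {x | x ∈ S1} → u * w * u⁻¹ ∈ gen (sys (F := K)).toAddRel {x | x ∈ S1}) ?_ ?_ ?_ hu
  · intro w hw
    simpa using hw
  · intro r hr t w hw
    by_cases hrS : r ∈ S1
    · exact Subgroup.mul_mem _ (Subgroup.mul_mem _ (X_mem_gen _ hrS _) hw) (Subgroup.inv_mem _ (X_mem_gen _ hrS _))
    · refine Cfsg.Agent.Lib.ChevBN.Collect.conj_mem_gen' (commPos sys) hr ?_ ?_ t hw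
      · intro s hs
        refine ⟨S1_pos s hs, fun h => hrS (h ▸ hs)⟩
      · intro s hs c hc
        refine comm_S1 r (mem_posRoots hr) s ?_ (fun h => hrS (h ▸ hs)) c hc
        have hs' : s ∈ S1 := hs
        simp only [S1, List.mem_cons, List.not_mem_nil, or_false] at hs'
        simp [hs']
  · intro a b ha hb w hw
    have e : a * b * w * (a * b)⁻¹ = a * (b * w * b⁻¹) * a⁻¹ := by group
    rw [e]
    exact ha (hb hw)

/-- `U` normalises the abelian subgroup. -/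
theorem U_norm_SS {u w : GL chevE6.Idx K} (hu : u ∈ chevE6.posUnipotent K) (hw : w ∈ gen (sys (F := K)).toAddRel {x | x ∈ SS}) :
    u * w * u⁻¹ ∈ gen (sys (F := K)).toAddRel {x | x ∈ SS} := by
  rw [posUnipotent_eq (sys (F := K)).toAddRel] at hu
  revert w
  refine gen_induction (sys (F := K)).toAddRel (P := fun u => ∀ {w : GL chevE6.Idx K},
    w ∈ gen (sys (F := K)).toAddRel {x | x ∈ SS} → u * w * u⁻¹ ∈ gen (sys (F := K)).toAddRel {x | x ∈ SS}) ?_ ?_ ?_ hu
  · intro w hw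
    simpa using hw
  · intro r hr t w hw
    by_cases hrS : r ∈ SS
    · exact Subgroup.mul_mem _ (Subgroup.mul_mem _ (X_mem_gen _ hrS _) hw) (Subgroup.inv_mem _ (X_mem_gen _ hrS _))
    · refine Cfsg.Agent.Lib.ChevBN.Collect.conj_mem_gen' (commPos sys) hr ?_ ?_ t hw
      · intro s hs
        refine ⟨SS_pos s hs, fun h => hrS (h ▸ hs)⟩
      · intro s hs c hc
        exact comm_SS r (mem_posRoots hr) s hs (fun h => hrS (h ▸ hs)) c hc
  · intro a b ha hb w hw
    have e : a * b * w * (a * b)⁻¹ = a * (b * w * b⁻¹) * a⁻¹ := by group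
    rw [e]
    exact ha (hb hw)

/-- `H` normalises subgroups generated by root elements. -/
theorem H_norm_gen {h w : GL chevE6.Idx K} (hh : h ∈ chevE6.diagonalSubgroup K) {Ψ : Set ℕ} (hΨ : ∀ s ∈ Ψ, s < chevE6.nroots)
    (hw : w ∈ gen (sys (F := K)).toAddRel Ψ) : h * w * h⁻¹ ∈ gen (sys (F := K)).toAddRel Ψ := by
  obtain ⟨κ, hκ, -, h1⟩ := Cfsg.Agent.Lib.ChevBN.Torus.exists_of_mem_H sys tbl_chevE6 hh
  refine gen_induction (sys (F := K)).toAddRel (P := fun w => h * w * h⁻¹ ∈ gen (sys (F := K)).toAddRel Ψ) (by simp) ?_ ?_ hw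
  · intro r hr t
    rw [h1 r (hΨ r hr)]
    exact X_mem_gen _ hr _
  · intro a b ha hb
    have e : h * (a * b) * h⁻¹ = (h * a * h⁻¹) * (h * b * h⁻¹) := by group
    rw [e]
    exact Subgroup.mul_mem _ ha hb

/-- `B` normalises the abelian subgroup. -/
theorem B_norm_SS {b w : GL chevE6.Idx K} (hb : b ∈ chevE6.borelSubgroup K) (hw : w ∈ gen (sys (F := K)).toAddRel {x | x ∈ SS}) :
    b * w * b⁻¹ ∈ gen (sys (F := K)).toAddRel {x | x ∈ SS} := by
  obtain ⟨u, hu, h, hh, rfl⟩ := (Cfsg.Agent.Lib.ChevBN.Pair.mem_B_iff sys tbl_chevE6).1 hb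
  have e : u * h * w * (u * h)⁻¹ = u * (h * w * h⁻¹) * u⁻¹ := by group
  rw [e]
  exact U_norm_SS hu (H_norm_gen hh (fun s hs => (SS_pos s hs).1) hw)

/-- Good elements. -/
def Good (z : GL chevE6.Idx K) : Prop :=
  ∃ α β w₁, α ≠ 0 ∧ β ≠ 0 ∧ w₁ ∈ gen (sys (F := K)).toAddRel {x | x ∈ S1} ∧ z = Xr 66 α * (Xr 68 β * w₁)

theorem comm_S1_gen {a : ℕ} (ha : a ∈ SS) (t : K) {w : GL chevE6.Idx K} (hw : w ∈ gen (sys (F := K)).toAddRel {x | x ∈ S1}) :
    Commute (Xr a t) w := by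
  refine gen_induction (sys (F := K)).toAddRel (P := fun w => Commute (Xr a t) w) (Commute.one_right _) ?_ (fun x y hx hy => hx.mul_right hy) hw
  intro r hr u
  refine comm_ss ha ?_ t u
  have hr' : r ∈ S1 := hr
  simp only [S1, List.mem_cons, List.not_mem_nil, or_false] at hr'
  simp [SS, hr']

/-- Conjugation of a root element of the second layer by `U`. -/
theorem U_conj_layer {a : ℕ} (ha : a ∈ [66, 68]) {u : GL chevE6.Idx K} (hu : u ∈ chevE6.posUnipotent K) (t : K) :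
    ∃ w ∈ gen (sys (F := K)).toAddRel {x | x ∈ S1}, u * Xr a t * u⁻¹ = Xr a t * w := by
  have haS : a ∈ [66, 68, 69, 70, 71] := by
    simp only [List.mem_cons, List.not_mem_nil, or_false] at ha
    rcases ha with rfl | rfl <;> decide
  have haSS : a ∈ SS := by
    simp only [List.mem_cons, List.not_mem_nil, or_false] at ha
    rcases ha with rfl | rfl <;> decide
  have hapos : chevE6.IsPosRoot a := SS_pos a haSS
  have hu' := hu
  rw [posUnipotent_eq (sys (F := K)).toAddRel] at hu'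
  suffices h : u ∈ chevE6.posUnipotent K ∧ ∀ t : K,
      ∃ w ∈ gen (sys (F := K)).toAddRel {x | x ∈ S1}, u * Xr a t * u⁻¹ = Xr a t * w from h.2 t
  refine gen_induction (sys (F := K)).toAddRel (P := fun u => u ∈ chevE6.posUnipotent K ∧ ∀ t : K,
    ∃ w ∈ gen (sys (F := K)).toAddRel {x | x ∈ S1}, u * Xr a t * u⁻¹ = Xr a t * w) ?_ ?_ ?_ hu'
  · exact ⟨Subgroup.one_mem _, fun t => ⟨1, Subgroup.one_mem _, by simp⟩⟩
  · intro r hr v
    refine ⟨Cfsg.Agent.Lib.ChevBN.Pair.X_mem_U sys tbl_chevE6 hr v, fun t => ?_⟩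
    by_cases hra : r = a
    · subst hra
      refine ⟨1, Subgroup.one_mem _, ?_⟩
      rw [mul_one, (show Xr r v * Xr r t = Xr r t * Xr r v by rw [X_mul, X_mul, add_comm]), mul_inv_cancel_right]
    · have h1 := commPos sys r a hr hapos (Ne.symm hra) (-v) t
      refine ⟨W (sys (F := K)).toAddRel (chevE6.commWord K r a (-v) t), ?_, ?_⟩
      · apply W_mem_gen
        intro p hp
        obtain ⟨c, hc, hpc⟩ := Cfsg.Agent.Lib.ChevBN.Collect.mem_commWord hp
        rw [hpc]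
        exact comm_S1 r (mem_posRoots hr) a haS hra c hc
      · have e1 : Xr r v = (Xr r (-v))⁻¹ := by
          rw [X_inv, neg_neg]
        rw [e1, inv_inv, mul_assoc, h1]
        group
  · rintro x y ⟨hxU, hx⟩ ⟨hyU, hy⟩
    refine ⟨Subgroup.mul_mem _ hxU hyU, fun t => ?_⟩
    obtain ⟨w, hw, e1⟩ := hy t
    obtain ⟨w', hw', e2⟩ := hx t
    refine ⟨w' * (x * w * x⁻¹), Subgroup.mul_mem _ hw' (U_norm_S1 hxU hw), ?_⟩
    calc x * y * Xr a t * (x * y)⁻¹ = x * (y * Xr a t * y⁻¹) * x⁻¹ := by group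
      _ = (x * Xr a t * x⁻¹) * (x * w * x⁻¹) := by rw [e1]; group
      _ = _ := by rw [e2]; group

/-- `B` preserves good elements. -/
theorem B_good {b z : GL chevE6.Idx K} (hb : b ∈ chevE6.borelSubgroup K) (hz : Good z) : Good (b * z * b⁻¹) := by
  obtain ⟨u, hu, h, hh, rfl⟩ := (Cfsg.Agent.Lib.ChevBN.Pair.mem_B_iff sys tbl_chevE6).1 hb
  obtain ⟨α, β, w, hα, hβ, hw, rfl⟩ := hz
  obtain ⟨κ, hκ, -, h1⟩ := Cfsg.Agent.Lib.ChevBN.Torus.exists_of_mem_H sys tbl_chevE6 hh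
  have hw2 : h * w * h⁻¹ ∈ gen (sys (F := K)).toAddRel {x | x ∈ S1} := H_norm_gen hh (fun s hs => (S1_pos s hs).1) hw
  have e1 : h * (Xr 66 α * (Xr 68 β * w)) * h⁻¹ = Xr 66 (κ 66 * α) * (Xr 68 (κ 68 * β) * (h * w * h⁻¹)) := by
    rw [← h1 66 e66_lt, ← h1 68 e68_lt]
    group
  obtain ⟨w₁, hw₁, e2⟩ := U_conj_layer (a := 66) (by simp) hu (κ 66 * α)
  obtain ⟨w₂, hw₂, e3⟩ := U_conj_layer (a := 68) (by simp) hu (κ 68 * β)
  have hw3 := U_norm_S1 hu hw2
  set w₃ := u * (h * w * h⁻¹) * u⁻¹ with hw₃d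
  refine ⟨κ 66 * α, κ 68 * β, w₁ * (w₂ * w₃), mul_ne_zero (hκ _) hα, mul_ne_zero (hκ _) hβ,
    Subgroup.mul_mem _ hw₁ (Subgroup.mul_mem _ hw₂ hw3), ?_⟩
  have e4 : u * h * (Xr 66 α * (Xr 68 β * w)) * (u * h)⁻¹ = u * (h * (Xr 66 α * (Xr 68 β * w)) * h⁻¹) * u⁻¹ := by group
  rw [e4, e1]
  have e5 : u * (Xr 66 (κ 66 * α) * (Xr 68 (κ 68 * β) * (h * w * h⁻¹))) * u⁻¹ =
      (u * Xr 66 (κ 66 * α) * u⁻¹) * ((u * Xr 68 (κ 68 * β) * u⁻¹) * w₃) := by
    rw [hw₃d]
    group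
  rw [e5, e2, e3]
  have c1 : w₁ * Xr 68 (κ 68 * β) = Xr 68 (κ 68 * β) * w₁ :=
    ((comm_S1_gen (a := 68) (by decide) _ hw₁).eq).symm
  calc Xr 66 (κ 66 * α) * w₁ * (Xr 68 (κ 68 * β) * w₂ * w₃)
      = Xr 66 (κ 66 * α) * ((w₁ * Xr 68 (κ 68 * β)) * (w₂ * w₃)) := by group
    _ = Xr 66 (κ 66 * α) * ((Xr 68 (κ 68 * β) * w₁) * (w₂ * w₃)) := by rw [c1]
    _ = _ := by group

end Cfsg.Agent.Lib.Tw2E6Max
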