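import Cfsg.Agent.Lib.Tw2E6Max.Cover

/-!
# Maximality of the rational points in `²E₆(q)`
-/

set_option autoImplicit false
set_option maxRecDepth 1000000
set_option linter.unusedSectionVars false
set_option linter.unusedVariables false
set_option linter.unusedSimpArgs false

universe u

namespace Cfsg.Agent.Lib.Tw2E6Max

open Cfsg.Lie Cfsg.Agent.Lib.ChevBN.Elem Cfsg.Agent.Lib.ChevBN.Table Cfsg.Agent.Lib.ChevBN.Rel
open Cfsg.Agent.Lib.ChevBN.FastData Cfsg.Agent.Lib.ChevBN.Fix Cfsg.Agent.Lib.ChevBN.Collect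
open Cfsg.Agent.Lib.ChevBN.Opp Cfsg.Agent.Lib.ChevBN.Monomial Cfsg.Agent.Lib.ChevBN.Pair
open Cfsg.Agent.Lib.Twisted Cfsg.Agent.Lib.Twisted.E6
open Cfsg.Agent.Lib.Chevalley.Tbl.E6 (sys comm)

variable {K : Type u} [Field K]

set_option quotPrecheck false in
/-- The root elements. -/
local notation "Xr" => X (sys (F := _)).toAddRel

section Main

variable [Fintype K] {q : ℕ} {φ : K →+* K} {T : Tw (sys (F := K)).toAddRel}
  (hφ : ∀ t, φ t = t ^ q) (hφ2 : ∀ t, φ (φ t) = t) (hρ : T.ρ = ρ0)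
  (hτ : ∀ r t, T.τ r t = ((ε0 r : ℤ) : K) * φ t)
  (I : Inst sys tbl_chevE6 T Js cl (twistedE6 K q))

include hφ in
theorem exists_mu (hq : IsPrimePow q) (hK : Fintype.card K = q ^ 2) : ∃ μ, φ μ ≠ μ := by
  by_contra hc
  push Not at hc
  have h1 := card_Ra hφ hq hK
  have h2 : Nat.card (Ra φ) = Nat.card K := Nat.card_congr (Equiv.subtypeUnivEquiv hc)
  rw [h1, Nat.card_eq_fintype_card, hK] at h2
  have h3 := hq.two_le
  nlinarith

include hφ in
/-- The Frobenius map preserves the group. -/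
theorem map_G {g : GL chevE6.Idx K} (hg : g ∈ twistedE6 K q) : mapG chevE6 φ g ∈ twistedE6 K q := by
  have hle : twistedE6 K q ≤ (twistedE6 K q).comap (mapG chevE6 φ) := by
    refine (Subgroup.closure_le _).2 ?_
    intro g hg
    have hw : ∀ a b t, mapG chevE6 φ (w2 φ a b t) = w2 φ a b (φ t) := by
      intro a b t
      simp only [w2, map_mul, map_one, mapG_X φ (sys (F := K)).toAddRel (sys (F := K)).toAddRel]
    show mapG chevE6 φ g ∈ twistedE6 K q
    rcases gen_form hφ hg with ⟨t, ht, rfl | rfl | rfl | rfl⟩ | ⟨t, rfl | rfl | rfl | rfl⟩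
    · rw [mapG_X φ (sys (F := K)).toAddRel (sys (F := K)).toAddRel, ht]
      exact X_single_mem hφ (by simp [e6p2]) ht
    · rw [mapG_X φ (sys (F := K)).toAddRel (sys (F := K)).toAddRel, ht]
      exact X_single_mem hφ (by simp [e6m2]) ht
    · rw [mapG_X φ (sys (F := K)).toAddRel (sys (F := K)).toAddRel, ht]
      exact X_single_mem hφ (by simp [e6p4]) ht
    · rw [mapG_X φ (sys (F := K)).toAddRel (sys (F := K)).toAddRel, ht]
      exact X_single_mem hφ (by simp [e6m4]) ht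
    · rw [hw]
      exact w2_mem hφ (rs := (56, 36)) (by simp [e6p1, e6p6]) _
    · rw [hw]
      exact w2_mem hφ (rs := (15, 35)) (by simp [e6m1, e6m6]) _
    · rw [hw]
      exact w2_mem hφ (rs := (42, 37)) (by simp [e6p3, e6p5]) _
    · rw [hw]
      exact w2_mem hφ (rs := (29, 34)) (by simp [e6m3, e6m5]) _
  exact hle hg

include hφ hφ2 hρ hτ I in
/-- The maximality. -/
theorem max_main (hq : IsPrimePow q) (hK : Fintype.card K = q ^ 2) {H : Subgroup (GL chevE6.Idx K)}
    (h1 : MM q φ ≤ H) (h2 : H ≤ twistedE6 K q) : H = MM q φ ∨ H = twistedE6 K q := by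
  have hcov := cover hφ hφ2 hρ hτ I hq hK
  by_cases hA : ∀ h ∈ H, ∀ t : K, φ t = t → t ≠ 0 → mapG chevE6 φ (h * Xr 71 t * h⁻¹) = h * Xr 71 t * h⁻¹
  · left
    refine le_antisymm ?_ h1
    intro g hg
    have hgG := h2 hg
    have hg' : mapG chevE6 φ g ∈ twistedE6 K q := map_G hφ hgG
    have hc : g⁻¹ * mapG chevE6 φ g = 1 := by
      apply cent_one hφ I (Subgroup.mul_mem _ (Subgroup.inv_mem _ hgG) hg')
      intro m hm t ht
      by_cases ht0 : t = 0
      · subst ht0
        simp [X_zero]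
      have e3 := hA (g * m) (Subgroup.mul_mem _ hg (h1 hm)) t ht ht0
      have hmf : mapG chevE6 φ m = m := hm.2
      rw [map_mul, map_mul, map_inv, map_mul, hmf, mapG_X φ (sys (F := K)).toAddRel (sys (F := K)).toAddRel, ht] at e3
      show g⁻¹ * mapG chevE6 φ g * (m * Xr 71 t * m⁻¹) = (m * Xr 71 t * m⁻¹) * (g⁻¹ * mapG chevE6 φ g)
      calc g⁻¹ * mapG chevE6 φ g * (m * Xr 71 t * m⁻¹) =
            g⁻¹ * ((mapG chevE6 φ g * m) * Xr 71 t * (mapG chevE6 φ g * m)⁻¹) * mapG chevE6 φ g := by group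
        _ = g⁻¹ * ((g * m) * Xr 71 t * (g * m)⁻¹) * mapG chevE6 φ g := by rw [e3]
        _ = _ := by group
    rw [inv_mul_eq_one] at hc
    exact ⟨hgG, hc.symm⟩
  · right
    push Not at hA
    obtain ⟨h, hh, t, ht, ht0, hne⟩ := hA
    refine le_antisymm h2 ?_
    rcases hcov _ ⟨h, h2 hh, t, ht, ht0, rfl⟩ with h3 | ⟨m, hm, y, e⟩
    · exact absurd h3 hne
    · have hy : Phi φ y ∈ H := by
        have e2 : Phi φ y = m⁻¹ * (h * Xr 71 t * h⁻¹) * m := by
          rw [e]
          group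
        rw [e2]
        have hX : Xr 71 t ∈ H :=
          h1 (X_fix_M hρ hτ I (by decide +kernel) (by decide +kernel) (by decide +kernel) ht)
        exact Subgroup.mul_mem _ (Subgroup.mul_mem _ (Subgroup.inv_mem _ (h1 hm))
          (Subgroup.mul_mem _ (Subgroup.mul_mem _ hh hX) (Subgroup.inv_mem _ hh))) (h1 hm)
      obtain ⟨a, b, c, d, f, g, k, ha, hb, hc, hf, hg, hk, hd, e5⟩ := Phi_form hφ2 y
      rw [e5] at hy
      exact big hφ hρ hτ I h1 (card_Ra hφ hq hK) hK ha hb hc hf hg hk hd hy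

include hφ hφ2 hρ hτ I in
/-- The rational points are a proper subgroup. -/
theorem MM_ne (hq : IsPrimePow q) (hK : Fintype.card K = q ^ 2) : MM q φ ≠ twistedE6 K q := by
  intro he
  obtain ⟨μ, hμ⟩ := exists_mu hφ hq hK
  have hx := w2_G hφ2 hρ hτ I (a := 37) (b := 42) (by decide +kernel) (by decide +kernel) (by decide +kernel) (by decide +kernel)
    (by decide +kernel) (by decide +kernel) (by decide) (by decide +kernel) (by decide +kernel) μ
  rw [← he] at hx
  have h3 : mapG chevE6 φ (w2 φ 37 42 μ) = w2 φ 37 42 μ := hx.2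
  simp only [w2, mul_one, map_mul, mapG_X φ (sys (F := K)).toAddRel (sys (F := K)).toAddRel] at h3
  obtain ⟨h4, -⟩ := pair_eq (by decide) (by decide +kernel) (by decide +kernel) h3
  exact hμ h4

end Main

end Cfsg.Agent.Lib.Tw2E6Max
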