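import Cfsg.Agent.Lib.Tw2E6Max.Ent
import Cfsg.Agent.Lib.ChevBN.Fix
import Cfsg.Agent.Lib.ChevBN.GraphFix

/-!
# The points of `²E₆(q)` over the small field: the group `F₄(q)` with its (B,N)-pair
-/

set_option autoImplicit false
set_option maxRecDepth 1000000
set_option linter.unusedSectionVars false
set_option linter.unusedVariables false
set_option linter.unusedSimpArgs false

universe u

namespace Cfsg.Agent.Lib.Tw2E6Max

open Cfsg DoubleCoset
open Cfsg.Lie Cfsg.Agent.Lib.ChevBN.Elem Cfsg.Agent.Lib.ChevBN.Entries Cfsg.Agent.Lib.ChevBN.Table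
open Cfsg.Agent.Lib.ChevBN.Rel Cfsg.Agent.Lib.ChevBN.FastData Cfsg.Agent.Lib.ChevBN.Monomial
open Cfsg.Agent.Lib.ChevBN.Opp Cfsg.Agent.Lib.ChevOrder.Chev Cfsg.Agent.Lib.ChevBN.Fix
open Cfsg.Agent.Lib.ChevBN.Pair Cfsg.Agent.Lib.ChevBN.Torus
open Cfsg.Agent.Lib.BNPair.Basic Cfsg.Agent.Lib.BNPair.Parabolic
open Cfsg.Agent.Lib.ChevOrder.Level Cfsg.Agent.Lib.ChevOrder.BNCount
open Cfsg.Agent.Lib.Twisted Cfsg.Agent.Lib.Twisted.E6 Cfsg.Agent.Lib.Twisted.WCox
open Cfsg.Agent.Lib.Chevalley.Tbl.E6 (sys comm)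

variable {K : Type u} [Field K]

set_option quotPrecheck false in
/-- The root elements. -/
local notation "Xr" => X (sys (F := _)).toAddRel

section Map

variable {F₀ : Type*} [Field F₀] (f : F₀ →+* K)

theorem map_H {h : GL chevE6.Idx F₀} (hh : h ∈ chevE6.diagonalSubgroup F₀) :
    mapG chevE6 f h ∈ chevE6.diagonalSubgroup K := by
  rw [ChevalleyDatum.diagonalSubgroup] at hh
  induction hh using Subgroup.closure_induction with
  | mem g hg =>
    obtain ⟨r, t, hr, ht, hg⟩ := hg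
    rw [eq_hG (sys (F := F₀)).toAddRel] at hg
    subst hg
    rw [mapG_hG f (sys (F := F₀)).toAddRel (sys (F := K)).toAddRel]
    exact hG_mem_diagonal sys hr (by simpa using ht)
  | one => simp
  | mul a b _ _ ha hb =>
    rw [map_mul]
    exact Subgroup.mul_mem _ ha hb
  | inv a _ ha =>
    rw [map_inv]
    exact Subgroup.inv_mem _ ha

theorem map_U {u : GL chevE6.Idx F₀} (hu : u ∈ chevE6.posUnipotent F₀) : mapG chevE6 f u ∈ chevE6.posUnipotent K := by
  rw [posUnipotent_eq (sys (F := F₀)).toAddRel] at hu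
  rw [posUnipotent_eq (sys (F := K)).toAddRel]
  exact mapG_gen f _ _ hu

theorem map_B {b : GL chevE6.Idx F₀} (hb : b ∈ chevE6.borelSubgroup F₀) : mapG chevE6 f b ∈ chevE6.borelSubgroup K := by
  obtain ⟨u, hu, h, hh, rfl⟩ := (mem_B_iff sys tbl_chevE6).mp hb
  rw [map_mul]
  exact Subgroup.mul_mem _ (U_le_B sys tbl_chevE6 (map_U f hu)) (H_le_B sys tbl_chevE6 (map_H f hh))

theorem map_N {n : GL chevE6.Idx F₀} (hn : n ∈ chevE6.monomialSubgroup F₀) : mapG chevE6 f n ∈ chevE6.monomialSubgroup K := by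
  rw [monomial_eq sys tbl_chevE6] at hn
  have hle : chevE6.diagonalSubgroup F₀ ⊔ NJ (sys (F := F₀)) Set.univ ≤ (chevE6.monomialSubgroup K).comap (mapG chevE6 f) := by
    refine sup_le (fun h hh => H_le_N sys (map_H f hh)) ?_
    rw [NJ, Subgroup.closure_le]
    rintro g ⟨q, -, hl, rfl⟩
    show mapG chevE6 f (A sys q) ∈ chevE6.monomialSubgroup K
    rw [A, mapG_nG f (sys (F := F₀)).toAddRel (sys (F := K)).toAddRel, map_one]
    exact A_mem_N sys tbl_chevE6 hl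
  exact hle hn

/-- The permutation of the roots does not depend on the field. -/
theorem pn_map {n : GL chevE6.Idx F₀} (hn : n ∈ chevE6.monomialSubgroup F₀) (r : Fin chevE6.nroots) :
    (pn sys tbl_chevE6 (map_N f hn) r).val = (pn sys tbl_chevE6 hn r).val := by
  obtain ⟨κ₀, h0, h1⟩ := pn_conj sys tbl_chevE6 hn r
  obtain ⟨κ, h2, h3⟩ := pn_conj sys tbl_chevE6 (map_N f hn) r
  have e1 := congrArg (mapG chevE6 f) (h1 1)
  simp only [map_mul, map_inv, mapG_X f (sys (F := F₀)).toAddRel (sys (F := K)).toAddRel, map_one] at e1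
  rw [h3] at e1
  exact Cfsg.Agent.Lib.ChevBN.GraphFix.X_root_inj (sys (F := K)) tbl_chevE6 (Fin.isLt _) (Fin.isLt _) (by simpa using h2) e1

end Map

theorem U_comm_71 {u : GL chevE6.Idx K} (hu : u ∈ chevE6.posUnipotent K) (t : K) : u * Xr 71 t * u⁻¹ = Xr 71 t := by
  have h1 : ∀ r ∈ chevE6.posRoots, r ≠ 71 → r < chevE6.nroots ∧ (71 : ℕ) < chevE6.nroots ∧ (71 : ℕ) ≠ chevE6.neg r ∧
      chevE6.commTerms r 71 = [] := by decide +kernel
  rw [posUnipotent_eq (sys (F := K)).toAddRel] at hu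
  refine gen_induction (sys (F := K)).toAddRel (P := fun u => u * Xr 71 t * u⁻¹ = Xr 71 t) (by simp) ?_ ?_ hu
  · intro r hr v
    by_cases hr71 : r = 71
    · subst hr71
      rw [(show Xr 71 v * Xr 71 t = Xr 71 t * Xr 71 v by rw [X_mul, X_mul, add_comm]), mul_inv_cancel_right]
    · obtain ⟨h2, h3, h4, h5⟩ := h1 r (mem_posRoots hr) hr71
      rw [(comm_p h2 h3 (Ne.symm hr71) h4 h5 v t).eq, mul_inv_cancel_right]
  · intro a b ha hb
    have e : a * b * Xr 71 t * (a * b)⁻¹ = a * (b * Xr 71 t * b⁻¹) * a⁻¹ := by group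
    rw [e, hb, ha]

theorem B_act_71 {b : GL chevE6.Idx K} (hb : b ∈ chevE6.borelSubgroup K) :
    ∃ κ : K, κ ≠ 0 ∧ ∀ t, b * Xr 71 t * b⁻¹ = Xr 71 (κ * t) := by
  obtain ⟨u, hu, h, hh, rfl⟩ := (mem_B_iff sys tbl_chevE6).1 hb
  obtain ⟨κ, hκ, -, h1⟩ := exists_of_mem_H sys tbl_chevE6 hh
  refine ⟨κ 71, hκ 71, fun t => ?_⟩
  have e : u * h * Xr 71 t * (u * h)⁻¹ = u * (h * Xr 71 t * h⁻¹) * u⁻¹ := by group
  rw [e, h1 71 (by decide +kernel), U_comm_71 hu]

theorem func_SS : ∀ r : Fin chevE6.nroots, r.val ∈ SS → func chevE6 a4 r = 2 := by decide +kernel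
theorem t4_key : ∀ e ∈ tM4, func chevE6 e.1 ⟨66, e66_lt⟩ = 2 → func chevE6 e.1 ⟨68, e68_lt⟩ = 2 → e.1 = a4 := by decide +kernel
theorem t1_key : ∀ e ∈ tM1, func chevE6 e.1 ⟨71, by decide +kernel⟩ = func chevE6 a1 ⟨71, by decide +kernel⟩ → e.1 = a1 := by decide +kernel
theorem t4_some : (lookupW tM4 a4).isSome = true := by decide +kernel
theorem t1_some : (lookupW tM1 a1).isSome = true := by decide +kernel

section Small

variable [Fintype K] {q : ℕ} {φ : K →+* K} (hφ : ∀ t, φ t = t ^ q) (hφ2 : ∀ t, φ (φ t) = t)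

include hφ hφ2

/-- The data of the small group. -/
theorem small_data (hq : IsPrimePow q) (hK : Fintype.card K = q ^ 2) :
    ∃ (G₀ : Type u) (_ : Group G₀) (_ : Finite G₀) (ι : G₀ →* GL chevE6.Idx K) (Q₁ Q₄ : Subgroup G₀),
      (∀ m, ι m ∈ twistedE6 K q ∧ mapG chevE6 φ (ι m) = ι m) ∧ Q₁.index = sM q ∧ Q₄.index = sM q ∧
      (∀ m {t t' : K}, t ≠ 0 → t' ≠ 0 → ι m * Xr 71 t * (ι m)⁻¹ = Xr 71 t' → m ∈ Q₁) ∧
      (∀ m {δ : K} {z' : GL chevE6.Idx K}, δ ≠ 0 → z' ∈ gen (sys (F := K)).toAddRel {x | x ∈ SS} →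
        ι m * (Xr 66 δ * (Xr 68 (-δ) * 1)) * (ι m)⁻¹ = z' → m ∈ Q₄) := by
  classical
  let F₀ : Subfield K := RingHom.eqLocusField φ (RingHom.id K)
  have hF : ∀ x : F₀, φ x.1 = x.1 := fun x => x.2
  have hcard0 : Nat.card F₀ = q := by
    rw [← card_fixed_pow hq.two_le hK]
    refine Nat.card_congr (Equiv.subtypeEquivRight fun x => ?_)
    rw [← hφ]
    exact Iff.rfl
  let _ : Fintype F₀ := Fintype.ofFinite _
  have hK0 : Fintype.card F₀ = q ^ 1 := by
    rw [pow_one, ← Nat.card_eq_fintype_card, hcard0]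
  let φ₀ : F₀ →+* F₀ := RingHom.id F₀
  have hφ₀ : ∀ t : F₀, φ₀ t = t ^ q := by
    intro t
    apply Subtype.ext
    show t.1 = (t ^ q : F₀).1
    rw [SubmonoidClass.coe_pow, ← hφ, hF]
  have hφ₀2 : ∀ t : F₀, φ₀ (φ₀ t) = t := fun t => rfl
  obtain ⟨T₀, hρ, hτ⟩ := exists_T φ₀
  have I₀ : Inst sys tbl_chevE6 T₀ Js cl (twistedE6 F₀ q) := inst hρ hτ hφ₀2 hφ₀
  obtain ⟨P, hB, hN, hS⟩ := I₀.exists_pair
  obtain ⟨e0, e1, e2, e3, e4, e5⟩ := e_s
  have hcard : ∀ i, Nat.card ↥(gen (sys (F := F₀)).toAddRel (psiL chevE6 (Jn i)) ⊓ T₀.Fx) = q ^ wxM i := by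
    intro i
    have hi : i = 0 ∨ i = 1 ∨ i = 2 ∨ i = 3 := by
      revert i
      decide
    rcases hi with rfl | rfl | rfl | rfl
    · show Nat.card ↥(gen (sys (F := F₀)).toAddRel (psiL chevE6 [1]) ⊓ T₀.Fx) = q ^ 1
      rw [card1 hρ hτ hφ₀ hq.two_le hK0 (by decide) e1 (by decide +kernel) (by decide +kernel) (by decide +kernel),
        pow_one]
    · show Nat.card ↥(gen (sys (F := F₀)).toAddRel (psiL chevE6 [3]) ⊓ T₀.Fx) = q ^ 1
      rw [card1 hρ hτ hφ₀ hq.two_le hK0 (by decide) e3 (by decide +kernel) (by decide +kernel) (by decide +kernel),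
        pow_one]
    · show Nat.card ↥(gen (sys (F := F₀)).toAddRel (psiL chevE6 [2, 4]) ⊓ T₀.Fx) = q ^ 1
      rw [card2 hρ hτ hφ₀2 (by decide) (by decide) e2 e4 (by decide +kernel) (by decide +kernel)
        (by decide +kernel) (by decide +kernel) (by decide +kernel) (by decide +kernel) (by decide +kernel)
        (by decide +kernel) (by decide +kernel), hK0]
    · show Nat.card ↥(gen (sys (F := F₀)).toAddRel (psiL chevE6 [0, 5]) ⊓ T₀.Fx) = q ^ 1
      rw [card2 hρ hτ hφ₀2 (by decide) (by decide) e0 e5 (by decide +kernel) (by decide +kernel)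
        (by decide +kernel) (by decide +kernel) (by decide +kernel) (by decide +kernel) (by decide +kernel)
        (by decide +kernel) (by decide +kernel), hK0]
  let ι : ↥(twistedE6 F₀ q) →* GL chevE6.Idx K := (mapG chevE6 F₀.subtype).comp (Subgroup.subtype _)
  have hι : ∀ m : ↥(twistedE6 F₀ q), ι m = mapG chevE6 F₀.subtype m.1 := fun m => rfl
  have hG : ∀ g : GL chevE6.Idx F₀, g ∈ twistedE6 F₀ q → mapG chevE6 F₀.subtype g ∈ twistedE6 K q := by
    intro g hg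
    have hle : twistedE6 F₀ q ≤ (twistedE6 K q).comap (mapG chevE6 F₀.subtype) := by
      refine (Subgroup.closure_le _).2 ?_
      intro g hg
      show mapG chevE6 F₀.subtype g ∈ twistedE6 K q
      rcases gen_form hφ₀ hg with ⟨t, ht, rfl | rfl | rfl | rfl⟩ | ⟨t, rfl | rfl | rfl | rfl⟩
      · rw [mapG_X _ (sys (F := F₀)).toAddRel (sys (F := K)).toAddRel]
        exact X_single_mem hφ (by simp [e6p2]) (hF t)
      · rw [mapG_X _ (sys (F := F₀)).toAddRel (sys (F := K)).toAddRel]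
        exact X_single_mem hφ (by simp [e6m2]) (hF t)
      · rw [mapG_X _ (sys (F := F₀)).toAddRel (sys (F := K)).toAddRel]
        exact X_single_mem hφ (by simp [e6p4]) (hF t)
      · rw [mapG_X _ (sys (F := F₀)).toAddRel (sys (F := K)).toAddRel]
        exact X_single_mem hφ (by simp [e6m4]) (hF t)
      all_goals
        simp only [w2, map_mul, map_one, mapG_X _ (sys (F := F₀)).toAddRel (sys (F := K)).toAddRel]
      · have := w2_mem hφ (rs := (56, 36)) (by simp [e6p1, e6p6]) (F₀.subtype t)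
        simpa [w2, φ₀, hF] using this
      · have := w2_mem hφ (rs := (15, 35)) (by simp [e6m1, e6m6]) (F₀.subtype t)
        simpa [w2, φ₀, hF] using this
      · have := w2_mem hφ (rs := (42, 37)) (by simp [e6p3, e6p5]) (F₀.subtype t)
        simpa [w2, φ₀, hF] using this
      · have := w2_mem hφ (rs := (29, 34)) (by simp [e6m3, e6m5]) (F₀.subtype t)
        simpa [w2, φ₀, hF] using this
    exact hle hg
  have hfix : ∀ g : GL chevE6.Idx F₀, mapG chevE6 φ (mapG chevE6 F₀.subtype g) = mapG chevE6 F₀.subtype g := by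
    intro g
    apply Units.ext
    ext i j
    simp only [coe_mapG, Matrix.map_apply]
    exact hF _
  have hidx1 := index_parL I₀ Jn Jn_mem hB hN hS Jn_surj pE pE_mem hcard chM1_chk all2
  have hidx4 := index_parL I₀ Jn Jn_mem hB hN hS Jn_surj pE pE_mem hcard chM4_chk all3
  rw [tM1_val] at hidx1
  rw [tM4_val] at hidx4
  have hall : ∀ i : Fin 4, i ∈ ([0, 1, 2, 3] : List (Fin 4)) := by decide
  have hmemB : ∀ b ∈ P.B, mapG chevE6 F₀.subtype b.1 ∈ chevE6.borelSubgroup K := by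
    intro b hb
    rw [hB, Subgroup.mem_subgroupOf] at hb
    exact map_B _ hb.1
  have hmemN : ∀ n ∈ P.N, n.1 ∈ chevE6.monomialSubgroup F₀ := by
    intro n hn
    rw [hN, Subgroup.mem_subgroupOf] at hn
    exact hn.1
  refine ⟨↥(twistedE6 F₀ q), inferInstance, inferInstance, ι, parL I₀ Jn Jn_mem P (rM1.map Prod.fst),
    parL I₀ Jn Jn_mem P (rM4.map Prod.fst), fun m => ⟨hG _ m.2, hfix _⟩, hidx1, hidx4, ?_, ?_⟩
  · -- the long root
    intro m t t' ht ht' he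
    obtain ⟨n, hn, hm⟩ := bruhat_exists (P := P) m
    obtain ⟨b, hb, b', hb', hme⟩ := mem_C.1 hm
    have hnN := hmemN n hn
    have hβ := hmemB b hb
    have hβ' := hmemB b' hb'
    set β := mapG chevE6 F₀.subtype b.1 with hβd
    set β' := mapG chevE6 F₀.subtype b'.1 with hβ'd
    set ν := mapG chevE6 F₀.subtype n.1 with hνd
    have hνN : ν ∈ chevE6.monomialSubgroup K := map_N _ hnN
    have hmι : ι m = β * ν * β' := by
      rw [hme]
      simp only [map_mul]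
      rfl
    obtain ⟨κ, hκ, h1⟩ := B_act_71 hβ'
    obtain ⟨κ₂, hκ₂, h2⟩ := B_act_71 (Subgroup.inv_mem _ hβ)
    have h71 : (71 : ℕ) < chevE6.nroots := by decide +kernel
    obtain ⟨κ₃, hκ₃, h3⟩ := pn_conj sys tbl_chevE6 hνN ⟨71, h71⟩
    have e₂ : ν * Xr 71 (κ * t) * ν⁻¹ = Xr 71 (κ₂ * t') := by
      rw [← h1 t, ← h2 t', ← he, hmι]
      group
    rw [h3] at e₂
    have hπ := Cfsg.Agent.Lib.ChevBN.GraphFix.X_root_inj (sys (F := K)) tbl_chevE6 (Fin.isLt _) h71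
      (mul_ne_zero hκ₃ (mul_ne_zero hκ ht)) e₂
    let w : WW P := QuotientGroup.mk (⟨n, hn⟩ : P.N)
    have hσ : ∀ r : Fin chevE6.nroots, (σP sys tbl_chevE6 hB hN w r).val = (pn sys tbl_chevE6 hνN r).val := by
      intro r
      have e3 := σP_mk sys tbl_chevE6 hB hN (⟨n, hn⟩ : P.N)
      show (σP sys tbl_chevE6 hB hN (QuotientGroup.mk (⟨n, hn⟩ : P.N)) r).val = _
      rw [e3]
      exact (pn_map _ hnN r).symm
    obtain ⟨e, he1, he2⟩ := orbit_tbl I₀ Jn Jn_mem hB hN hS Jn_surj hall t1_some tM1_step w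
    have hσ71 : σP sys tbl_chevE6 hB hN w ⟨71, h71⟩ = ⟨71, h71⟩ := Fin.ext ((hσ _).trans hπ)
    have f71 : func chevE6 e.1 ⟨71, h71⟩ = func chevE6 a1 ⟨71, h71⟩ := by
      rw [← he2, hσ71]
    have he3 := t1_key e he1 f71
    rw [he3] at he2
    have hw := stab_par I₀ Jn Jn_mem pE hB hN hS Jn_surj pE_mem (js := [3, 2, 1]) (j := 0) (by decide)
      tM1_top (by decide) he2
    rw [rM1_map]
    exact C_le_parabolic (I₀.eP Jn Jn_mem) (I₀.eP_mem Jn Jn_mem hS) hw hm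
  · intro m δ z' hδ hz' he
    obtain ⟨n, hn, hm⟩ := bruhat_exists (P := P) m
    obtain ⟨b, hb, b', hb', hme⟩ := mem_C.1 hm
    have hnN := hmemN n hn
    have hβ := hmemB b hb
    have hβ' := hmemB b' hb'
    set β := mapG chevE6 F₀.subtype b.1 with hβd
    set β' := mapG chevE6 F₀.subtype b'.1 with hβ'd
    set ν := mapG chevE6 F₀.subtype n.1 with hνd
    have hνN : ν ∈ chevE6.monomialSubgroup K := map_N _ hnN
    have hmι : ι m = β * ν * β' := by
      rw [hme]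
      simp only [map_mul]
      rfl
    have hgood : Good (β' * (Xr 66 δ * (Xr 68 (-δ) * 1)) * β'⁻¹) :=
      B_good hβ' ⟨δ, -δ, 1, hδ, neg_ne_zero.2 hδ, Subgroup.one_mem _, rfl⟩
    obtain ⟨α₁, β₁, w₁, hα₁, hβ₁, hw₁, e₁⟩ := hgood
    have hz2 : β⁻¹ * z' * β⁻¹⁻¹ ∈ gen (sys (F := K)).toAddRel {x | x ∈ SS} :=
      B_norm_SS (Subgroup.inv_mem _ hβ) hz'
    have e₂ : ν * (Xr 66 α₁ * (Xr 68 β₁ * w₁)) * ν⁻¹ = β⁻¹ * z' * β⁻¹⁻¹ := by
      rw [← e₁, ← he, hmι]
      group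
    obtain ⟨h66, h68⟩ := S_of_good hνN hα₁ hβ₁ hw₁ hz2 e₂
    let w : WW P := QuotientGroup.mk (⟨n, hn⟩ : P.N)
    have hσ : ∀ r : Fin chevE6.nroots, (σP sys tbl_chevE6 hB hN w r).val = (pn sys tbl_chevE6 hνN r).val := by
      intro r
      have e3 := σP_mk sys tbl_chevE6 hB hN (⟨n, hn⟩ : P.N)
      show (σP sys tbl_chevE6 hB hN (QuotientGroup.mk (⟨n, hn⟩ : P.N)) r).val = _
      rw [e3]
      exact (pn_map _ hnN r).symm
    obtain ⟨e, he1, he2⟩ := orbit_tbl I₀ Jn Jn_mem hB hN hS Jn_surj hall t4_some tM4_step w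
    have f66 : func chevE6 e.1 ⟨66, e66_lt⟩ = 2 := by
      rw [← he2]
      exact func_SS _ (by rw [hσ]; exact h66)
    have f68 : func chevE6 e.1 ⟨68, e68_lt⟩ = 2 := by
      rw [← he2]
      exact func_SS _ (by rw [hσ]; exact h68)
    have he3 := t4_key e he1 f66 f68
    rw [he3] at he2
    have hw := stab_par I₀ Jn Jn_mem pE hB hN hS Jn_surj pE_mem (js := [2, 1, 0]) (j := 3) (by decide)
      tM4_top (by decide) he2
    rw [rM4_map]
    exact C_le_parabolic (I₀.eP Jn Jn_mem) (I₀.eP_mem Jn Jn_mem hS) hw hm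

end Small

end Cfsg.Agent.Lib.Tw2E6Max
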