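import Cfsg.Agent.Lib.Tw2E6Max.Ay
import Cfsg.Agent.Lib.ChevBN.ParabCent

/-!
# The Weyl words, the centraliser of the long root elements of the rational points
-/

set_option autoImplicit false
set_option maxRecDepth 1000000
set_option linter.unusedSectionVars false
set_option linter.unusedVariables false
set_option linter.unusedSimpArgs false

universe u

namespace Cfsg.Agent.Lib.Tw2E6Max

open Cfsg.Lie Cfsg.Agent.Lib.ChevBN.Elem Cfsg.Agent.Lib.ChevBN.Table Cfsg.Agent.Lib.ChevBN.Rel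
open Cfsg.Agent.Lib.ChevBN.FastData Cfsg.Agent.Lib.ChevBN.Fix Cfsg.Agent.Lib.ChevBN.Collect
open Cfsg.Agent.Lib.ChevBN.Opp Cfsg.Agent.Lib.ChevBN.Monomial Cfsg.Agent.Lib.ChevBN.Pair
open Cfsg.Agent.Lib.ChevBN.Torus Cfsg.Agent.Lib.ChevBN.Stmts Cfsg.Agent.Lib.ChevBN.BruhatForm
open Cfsg.Agent.Lib.ChevOrder.Chev Cfsg.Agent.Lib.BNPair.Basic Cfsg.Agent.Lib.BNPair.Parabolic
open Cfsg.Agent.Lib.Twisted Cfsg.Agent.Lib.Twisted.E6
open Cfsg.Agent.Lib.Chevalley.Tbl.E6 (sys comm)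

variable {K : Type u} [Field K]

set_option quotPrecheck false in
/-- The root elements. -/
local notation "Xr" => X (sys (F := _)).toAddRel

/-- The signs of the Weyl elements. -/
noncomputable def sgn : List ℕ → ℕ → ℤ
  | [], _ => 1
  | i :: l, r => Cfsg.Agent.Lib.Chevalley.SysOf.etaOf Cfsg.Agent.Lib.Chevalley.Tbl.E6.wT i (l.foldr chevE6.reflectRoot r) * sgn l r

theorem foldr_lt : ∀ (l : List ℕ), (∀ i ∈ l, i < chevE6.rank) → ∀ {r : ℕ}, r < chevE6.nroots →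
    l.foldr chevE6.reflectRoot r < chevE6.nroots := by
  intro l
  induction l with
  | nil => exact fun _ r hr => hr
  | cons j l ih =>
    intro hl r hr
    simp only [List.foldr_cons]
    exact tbl_chevE6.w_lt j (hl j (by simp)) _ (ih (fun k hk => hl k (by simp [hk])) hr)

theorem cP : ∀ (l : List ℕ), (∀ i ∈ l, i < chevE6.rank) → ∀ {r : ℕ}, r < chevE6.nroots → ∀ t : K,
    prodA sys l * Xr r t * (prodA sys l)⁻¹ = Xr (l.foldr chevE6.reflectRoot r) ((sgn l r : K) * t) := by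
  intro l
  induction l with
  | nil =>
    intro _ r _ t
    simp [prodA, sgn]
  | cons i l ih =>
    intro hl r hr t
    have hl' : ∀ j ∈ l, j < chevE6.rank := fun j hj => hl j (by simp [hj])
    have hi : i < chevE6.rank := hl i (by simp)
    have hr' : l.foldr chevE6.reflectRoot r < chevE6.nroots := foldr_lt l hl' hr
    have e : prodA (sys (F := K)) (i :: l) = A (sys (F := K)) i * prodA (sys (F := K)) l := by simp [prodA]
    have e2 := ih hl' hr t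
    have e3 := A_conj_X (sys (F := K)) hi hr' ((sgn l r : K) * t)
    rw [e, List.foldr_cons, sgn]
    calc A (sys (F := K)) i * prodA (sys (F := K)) l * Xr r t * (A (sys (F := K)) i * prodA (sys (F := K)) l)⁻¹
        = A (sys (F := K)) i * (prodA (sys (F := K)) l * Xr r t * (prodA (sys (F := K)) l)⁻¹) * (A (sys (F := K)) i)⁻¹ := by group
      _ = _ := by
        rw [e2, e3]
        congr 1
        push_cast
        ring

/-- A word with a known effect. -/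
theorem cw {l : List ℕ} {r r' : ℕ} {s : ℤ} (hl : ∀ i ∈ l, i < chevE6.rank) (hr : r < chevE6.nroots)
    (h1 : l.foldr chevE6.reflectRoot r = r') (h2 : sgn l r = s) (t : K) :
    prodA sys l * Xr r t * (prodA sys l)⁻¹ = Xr r' ((s : K) * t) := by
  rw [cP l hl hr, h1, h2]

theorem prodA_fix (σ : K →+* K) {l : List ℕ} (hl : ∀ i ∈ l, i < chevE6.rank) : mapG chevE6 σ (prodA sys l) = prodA sys l := by
  apply fix_of_mem_fixL sys σ
  apply Subgroup.list_prod_mem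
  intro x hx
  obtain ⟨i, hi, rfl⟩ := List.mem_map.mp hx
  exact A_mem_fixL sys tbl_chevE6 σ (hl i hi)

/-- An element of `H` centralising the fundamental root elements is trivial. -/
theorem H_eq_one {h : GL chevE6.Idx K} (hh : h ∈ chevE6.diagonalSubgroup K)
    (hs : ∀ i < chevE6.rank, h * Xr (chevE6.simple i) 1 * h⁻¹ = Xr (chevE6.simple i) 1) : h = 1 := by
  rw [diagonal_eq sys tbl_chevE6] at hh
  obtain ⟨c, hc, rfl⟩ := hh
  have key2 : ∀ j < chevE6.rank, chi chevE6 c (chevE6.simple j) = 1 := by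
    intro j hj
    have h1 := hs j hj
    rw [hP_conj sys hc (tbl_chevE6.simple_lt hj)] at h1
    have h2 := Cfsg.Agent.Lib.ChevBN.Fix.X_inj sys tbl_chevE6 (tbl_chevE6.simple_pos j hj) h1
    simpa using h2
  apply Units.ext
  rw [coe_hP sys hc, Units.val_one, ← dgMat_one]
  congr 1
  funext s
  exact Cfsg.Agent.Lib.ChevBN.ParabCent.chi_all c hc tbl_chevE6 key2 s.isLt

theorem B_conj_U {b u : GL chevE6.Idx K} (hb : b ∈ chevE6.borelSubgroup K) (hu : u ∈ chevE6.posUnipotent K) :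
    b * u * b⁻¹ ∈ chevE6.posUnipotent K := by
  obtain ⟨u₁, hu₁, h, hh, rfl⟩ := (mem_B_iff sys tbl_chevE6).1 hb
  have h1 := H_norm_U sys tbl_chevE6 hh hu
  have e : u₁ * h * u * (u₁ * h)⁻¹ = u₁ * (h * u * h⁻¹) * u₁⁻¹ := by group
  rw [e]
  exact Subgroup.mul_mem _ (Subgroup.mul_mem _ hu₁ h1) (Subgroup.inv_mem _ hu₁)

/-- A word for the longest element. -/
def lstar : List ℕ := [0, 5, 2, 4, 3, 2, 4, 1, 3, 2, 4, 0, 5, 2, 4, 3, 2, 4, 1, 3, 2, 4, 0, 5, 2, 4, 3, 2, 4, 1, 3, 2, 4, 1, 3, 1]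

/-- The same word, by orbits. -/
def wstar : List (List ℕ) := [[0, 5], [2, 4], [3], [2, 4], [1], [3], [2, 4], [0, 5], [2, 4], [3], [2, 4], [1], [3], [2, 4], [0, 5], [2, 4], [3], [2, 4], [1], [3], [2, 4], [1], [3], [1]]

theorem wstar_flat : wstar.flatten = lstar := by decide

theorem lstar_lt : ∀ i ∈ lstar, i < chevE6.rank := by decide +kernel

theorem lstar_neg : ∀ r < chevE6.nroots, chevE6.IsPosRoot r → chevE6.IsNegRoot (lstar.foldr chevE6.reflectRoot r) := by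
  decide +kernel

/-- The longest element. -/
noncomputable abbrev Ns : GL chevE6.Idx K := prodA sys lstar

theorem Ns_N : (Ns : GL chevE6.Idx K) ∈ chevE6.monomialSubgroup K := prodA_mem_N sys tbl_chevE6 lstar_lt

theorem Ns_U {u : GL chevE6.Idx K} (hu : u ∈ chevE6.posUnipotent K) : Ns * u * Ns⁻¹ ∈ chevE6.negUnipotent K := by
  rw [posUnipotent_eq (sys (F := K)).toAddRel] at hu
  refine gen_induction (sys (F := K)).toAddRel (P := fun u => Ns * u * Ns⁻¹ ∈ chevE6.negUnipotent K) (by simp) ?_ ?_ hu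
  · intro r hr t
    rw [cP lstar lstar_lt hr.1, negUnipotent_eq (sys (F := K)).toAddRel]
    exact X_mem_gen _ (lstar_neg r hr.1 hr) _
  · intro a b ha hb
    have e : Ns * (a * b) * Ns⁻¹ = (Ns * a * Ns⁻¹) * (Ns * b * Ns⁻¹) := by group
    rw [e]
    exact Subgroup.mul_mem _ ha hb

theorem sgn_unit {l : List ℕ} {r : ℕ} {s : ℤ} (h : sgn l r = s) (hs : s = 1 ∨ s = -1) : (s : K) * (s : K) = 1 := by
  rcases hs with rfl | rfl <;> simp

section Main

variable [Fintype K] {q : ℕ} {φ : K →+* K} {T : Tw (sys (F := K)).toAddRel}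
  (hφ : ∀ t, φ t = t ^ q) (hφ2 : ∀ t, φ (φ t) = t) (hρ : T.ρ = ρ0)
  (hτ : ∀ r t, T.τ r t = ((ε0 r : ℤ) : K) * φ t)
  (I : Inst sys tbl_chevE6 T Js cl (twistedE6 K q))

/-- The rational points of the twisted group. -/
noncomputable def MM (q : ℕ) (φ : K →+* K) : Subgroup (GL chevE6.Idx K) :=
  twistedE6 K q ⊓ (mapG chevE6 φ).eqLocus (MonoidHom.id _)

omit [Fintype K] in
theorem mem_MM {g : GL chevE6.Idx K} : g ∈ MM q φ ↔ g ∈ twistedE6 K q ∧ mapG chevE6 φ g = g := Iff.rfl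

include I in
theorem word_MM {w : List (List ℕ)} (hw : ∀ J ∈ w, J ∈ Js) : prodA sys w.flatten ∈ MM q φ :=
  ⟨I.prodA_mem hw, prodA_fix φ (I.flat_lt hw)⟩

include hρ hτ I in
theorem X_fix_G {r : ℕ} (hr : chevE6.IsPosRoot r) (h1 : ρ0 r = r) (h2 : ε0 r = 1) {t : K} (ht : φ t = t) :
    Xr r t ∈ twistedE6 K q :=
  I.U_le ⟨X_mem_U sys tbl_chevE6 hr t, single_fix hρ hτ hr.1 h1 h2 ht⟩

include hρ hτ I in
theorem X_fix_M {r : ℕ} (hr : chevE6.IsPosRoot r) (h1 : ρ0 r = r) (h2 : ε0 r = 1) {t : K} (ht : φ t = t) :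
    Xr r t ∈ MM q φ := by
  refine ⟨X_fix_G hρ hτ I hr h1 h2 ht, ?_⟩
  show mapG chevE6 φ _ = MonoidHom.id _ _
  rw [mapG_X φ (sys (F := K)).toAddRel (sys (F := K)).toAddRel, ht]
  rfl

include I in
/-- The normal form. -/
theorem tnf' {g : GL chevE6.Idx K} (hg : g ∈ twistedE6 K q) :
    ∃ b ∈ chevE6.borelSubgroup K, ∃ n ∈ chevE6.monomialSubgroup K, n ∈ twistedE6 K q ∧ ∃ v ∈ Un chevE6 K n, g = b * n * v := by
  obtain ⟨P, hB, hN, -⟩ := I.exists_pair
  obtain ⟨n₀, hn₀, hm⟩ := bruhat_exists (P := P) (⟨g, hg⟩ : ↥(twistedE6 K q))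
  obtain ⟨b₁, hb₁, b₂, hb₂, e⟩ := mem_C.1 hm
  rw [hB] at hb₁ hb₂
  rw [hN] at hn₀
  have hb₁' := (Subgroup.mem_subgroupOf.1 hb₁).1
  have hb₂' := (Subgroup.mem_subgroupOf.1 hb₂).1
  have hn₀' := Subgroup.mem_subgroupOf.1 hn₀
  obtain ⟨u₂, hu₂, k₂, hk₂, e₂⟩ := (mem_B_iff sys tbl_chevE6).1 hb₂'
  have hnN := hn₀'.1
  have hku : k₂⁻¹ * u₂ * k₂ ∈ chevE6.posUnipotent K := by
    have := H_norm_U sys tbl_chevE6 (Subgroup.inv_mem _ hk₂) hu₂
    simpa using this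
  obtain ⟨a, w, hw, ha, e3⟩ := factor_U sys tbl_chevE6 hnN hku
  refine ⟨(b₁ : GL chevE6.Idx K) * ((n₀ : GL chevE6.Idx K) * k₂ * (n₀ : GL chevE6.Idx K)⁻¹) * ((n₀ : GL chevE6.Idx K) * a * (n₀ : GL chevE6.Idx K)⁻¹), ?_, n₀, hnN, n₀.2, w, hw, ?_⟩
  · exact Subgroup.mul_mem _ (Subgroup.mul_mem _ hb₁' (H_le_B sys tbl_chevE6 (H_norm_N sys tbl_chevE6 hnN hk₂))) (U_le_B sys tbl_chevE6 ha)
  · have e5 := congrArg Subtype.val e
    simp only [Subgroup.coe_mul] at e5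
    rw [e5, e₂]
    have e6 : u₂ * k₂ = k₂ * (k₂⁻¹ * u₂ * k₂) := by group
    rw [e6, e3]
    group

include I in
/-- An element commuting with a nontrivial element of a fundamental orbit. -/
theorem key_B {c : GL chevE6.Idx K} (hc : c ∈ twistedE6 K q) {a₁ a₂ a₃ a₃' a₄ a₄' : K} (h₁ : a₁ ≠ 0) (h₂ : a₂ ≠ 0)
    (h₃ : a₃ ≠ 0) (h₄ : a₄ ≠ 0)
    (c1 : Commute c (Xr 46 a₁)) (c2 : Commute c (Xr 39 a₂)) (c3 : Commute c (Xr 36 a₃ * Xr 56 a₃'))
    (c4 : Commute c (Xr 37 a₄ * Xr 42 a₄')) : c ∈ chevE6.borelSubgroup K := by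
  obtain ⟨b, hb, n, hnN, hnG, v, hv, rfl⟩ := tnf' I hc
  by_contra hcB
  have hnH : n ∉ chevE6.diagonalSubgroup K := fun h =>
    hcB (Subgroup.mul_mem _ (Subgroup.mul_mem _ hb (H_le_B sys tbl_chevE6 h)) (U_le_B sys tbl_chevE6 (Un_le_U sys tbl_chevE6 _ hv)))
  obtain ⟨i, hi⟩ := exists_simple_neg sys tbl_chevE6 hnN hnH
  obtain ⟨j, hj⟩ := I.fd.cover i i.2
  have hneg : ∀ r : Fin chevE6.nroots, r.val ∈ I.fd.Ψ j → ¬ chevE6.IsPosRoot (pn sys tbl_chevE6 hnN r) := by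
    rcases I.fd.dich j n hnN hnG with h | h
    · exact absurd (h _ hj) hi
    · exact h
  have hΨ : ∀ r ∈ I.fd.Ψ j, chevE6.IsPosRoot r := by
    rintro r ⟨i', hi', rfl⟩
    exact tbl_chevE6.simple_pos i' (I.orth.lt _ j.2 i' hi')
  have hUn : gen (sys (F := K)).toAddRel (I.fd.Ψ j) ≤ Un chevE6 K n := by
    refine gen_le (hA := (sys (F := K)).toAddRel) ?_
    intro r hr t
    apply Subgroup.subset_closure
    refine ⟨r, t, hΨ r hr, ?_, coe_X _ _ _⟩
    rw [Subgroup.map_le_iff_le_comap, rootSubgroup_eq (sys (F := K)).toAddRel]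
    refine gen_le _ ?_
    intro r' hr' t'
    rw [Set.mem_singleton_iff] at hr'
    rw [hr', Subgroup.mem_comap]
    show n * Xr r t' * n⁻¹ ∈ chevE6.negUnipotent K
    have hrl := (hΨ r hr).1
    obtain ⟨κ, -, h1⟩ := pn_conj sys tbl_chevE6 hnN ⟨r, hrl⟩
    rw [h1 t', negUnipotent_eq (sys (F := K)).toAddRel]
    apply X_mem_gen
    show chevE6.IsNegRoot _
    rcases tbl_chevE6.pos_or_neg (pn sys tbl_chevE6 hnN ⟨r, hrl⟩).isLt with h3 | h3
    · exact absurd h3 (hneg _ hr)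
    · exact h3
  have key : ∀ x ∈ gen (sys (F := K)).toAddRel (I.fd.Ψ j), Commute (b * n * v) x → x = 1 := by
    intro x hx hcx
    have hxU : x ∈ chevE6.posUnipotent K := Un_le_U sys tbl_chevE6 _ (hUn hx)
    have hy : v * x * v⁻¹ ∈ Un chevE6 K n :=
      Subgroup.mul_mem _ (Subgroup.mul_mem _ hv (hUn hx)) (Subgroup.inv_mem _ hv)
    have h1 := conj_Un_le sys tbl_chevE6 hy
    have e : n * (v * x * v⁻¹) * n⁻¹ = b⁻¹ * x * b⁻¹⁻¹ := by
      have e2 : (b * n * v) * x * (b * n * v)⁻¹ = x := by rw [hcx.eq, mul_inv_cancel_right]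
      calc n * (v * x * v⁻¹) * n⁻¹ = b⁻¹ * ((b * n * v) * x * (b * n * v)⁻¹) * b⁻¹⁻¹ := by group
        _ = _ := by rw [e2]
    have h2 : n * (v * x * v⁻¹) * n⁻¹ ∈ chevE6.borelSubgroup K ⊓ chevE6.negUnipotent K := by
      refine ⟨?_, h1⟩
      rw [e]
      exact U_le_B sys tbl_chevE6 (B_conj_U (Subgroup.inv_mem _ hb) hxU)
    rw [B_inf_V sys tbl_chevE6, Subgroup.mem_bot] at h2
    have h3 : v * x * v⁻¹ = 1 := by
      have := congrArg (fun z => n⁻¹ * z * n) h2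
      simpa [mul_assoc] using this
    have h4 := congrArg (fun z => v⁻¹ * z * v) h3
    simpa [mul_assoc] using h4
  obtain ⟨e0, e1, e2, e3, e4, e5⟩ := e_s
  have hm : ∀ {i' : ℕ} {J : List ℕ}, j.1 = J → i' ∈ J → chevE6.simple i' ∈ I.fd.Ψ j := by
    intro i' J hJ hi'
    exact ⟨i', hJ ▸ hi', rfl⟩
  have hJ := j.2
  simp only [Js, List.mem_cons, List.not_mem_nil, or_false] at hJ
  rcases hJ with hJ | hJ | hJ | hJ
  · have h5 := key (Xr 46 a₁) (X_mem_gen _ (e1 ▸ hm (i' := 1) hJ (by simp)) _) c1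
    exact h₁ (Cfsg.Agent.Lib.ChevBN.Fix.X_inj sys tbl_chevE6 (by decide +kernel) (h5.trans (X_zero _ _).symm))
  · have h5 := key (Xr 39 a₂) (X_mem_gen _ (e3 ▸ hm (i' := 3) hJ (by simp)) _) c2
    exact h₂ (Cfsg.Agent.Lib.ChevBN.Fix.X_inj sys tbl_chevE6 (by decide +kernel) (h5.trans (X_zero _ _).symm))
  · have h5 := key (Xr 36 a₃ * Xr 56 a₃') (Subgroup.mul_mem _ (X_mem_gen _ (e5 ▸ hm (i' := 5) hJ (by simp)) _)
      (X_mem_gen _ (e0 ▸ hm (i' := 0) hJ (by simp)) _)) c3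
    have h6 : Xr 36 a₃ = Xr 56 (-a₃') := by
      rw [← X_inv]
      exact eq_inv_of_mul_eq_one_left h5
    have h7 := Cfsg.Agent.Lib.ChevBN.GraphFix.X_root_inj (sys (F := K)) tbl_chevE6 (a := 36) (b := 56) (by decide +kernel) (by decide +kernel) h₃ h6
    omega
  · have h5 := key (Xr 37 a₄ * Xr 42 a₄') (Subgroup.mul_mem _ (X_mem_gen _ (e4 ▸ hm (i' := 4) hJ (by simp)) _)
      (X_mem_gen _ (e2 ▸ hm (i' := 2) hJ (by simp)) _)) c4
    have h6 : Xr 37 a₄ = Xr 42 (-a₄') := by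
      rw [← X_inv]
      exact eq_inv_of_mul_eq_one_left h5
    have h7 := Cfsg.Agent.Lib.ChevBN.GraphFix.X_root_inj (sys (F := K)) tbl_chevE6 (a := 37) (b := 42) (by decide +kernel) (by decide +kernel) h₄ h6
    omega

/-- The subgroup generated by the long root elements of the rational points. -/
noncomputable def Lam (q : ℕ) (φ : K →+* K) : Subgroup (GL chevE6.Idx K) :=
  Subgroup.closure {x | ∃ m ∈ MM q φ, ∃ t : K, φ t = t ∧ x = m * Xr 71 t * m⁻¹}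

omit [Fintype K] in
theorem Lam_conj {m g : GL chevE6.Idx K} (hm : m ∈ MM q φ) (hg : g ∈ Lam q φ) : m * g * m⁻¹ ∈ Lam q φ := by
  rw [Lam] at hg ⊢
  induction hg using Subgroup.closure_induction with
  | mem x hx =>
    obtain ⟨m', hm', t, ht, rfl⟩ := hx
    apply Subgroup.subset_closure
    exact ⟨m * m', Subgroup.mul_mem _ hm hm', t, ht, by group⟩
  | one => simp
  | mul a b _ _ ha hb =>
    have e : m * (a * b) * m⁻¹ = (m * a * m⁻¹) * (m * b * m⁻¹) := by group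
    rw [e]
    exact Subgroup.mul_mem _ ha hb
  | inv a _ ha =>
    have e : m * a⁻¹ * m⁻¹ = (m * a * m⁻¹)⁻¹ := by group
    rw [e]
    exact Subgroup.inv_mem _ ha

include I in
/-- The long root elements. -/
theorem X_Lam {w : List (List ℕ)} (hw : ∀ J ∈ w, J ∈ Js) {r : ℕ} {s : ℤ} (hs : s = 1 ∨ s = -1)
    (h1 : w.flatten.foldr chevE6.reflectRoot 71 = r) (h2 : sgn w.flatten 71 = s) {t : K} (ht : φ t = t) :
    Xr r t ∈ Lam q φ := by
  apply Subgroup.subset_closure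
  refine ⟨prodA sys w.flatten, word_MM I hw, (s : K) * t, ?_, ?_⟩
  · rcases hs with rfl | rfl <;> simp [ht]
  · rw [cw (I.flat_lt hw) (by decide +kernel) h1 h2, ← mul_assoc]
    have := sgn_unit (K := K) h2 hs
    rw [this, one_mul]

end Main

end Cfsg.Agent.Lib.Tw2E6Max
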